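import Cfsg.Agent.Lib.SEightThree.SymIso.Inside
import Cfsg.Agent.Lib.Classical.Order
import Cfsg.Agent.S3331

/-!
The centralizer of the four-group on four letters lies in the symmetric subgroup.
-/

set_option autoImplicit false
set_option linter.style.haveILetI false
set_option linter.unusedSectionVars false
set_option maxRecDepth 100000

namespace CfsgLib.SEightThree.SymIso

open Equiv Subgroup

universe u

theorem center_perm_three : ∀ p : Perm (Fin 3), (∀ r, r * p = p * r) → p = 1 := by decide +kernel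

/-- the four-group in `Sym 3 × Sym 5` -/
def VK : Subgroup KF where
  carrier := {k | k ∈ [1, aF, bF, aF * bF]}
  mul_mem' {a b} ha hb :=
    (show ∀ a ∈ [1, aF, bF, aF * bF], ∀ b ∈ [1, aF, bF, aF * bF], a * b ∈ [1, aF, bF, aF * bF] by
      decide +kernel) a ha b hb
  one_mem' := show (1 : KF) ∈ [1, aF, bF, aF * bF] by decide +kernel
  inv_mem' {a} ha :=
    (show ∀ a ∈ [1, aF, bF, aF * bF], a⁻¹ ∈ [1, aF, bF, aF * bF] by decide +kernel) a ha

theorem VK_facts : (∀ v ∈ [1, aF, bF, aF * bF], v * v = 1 ∧ v * aF = aF * v ∧ v * bF = bF * v) ∧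
    ([1, aF, bF, aF * bF] : List KF).Nodup :=
  ⟨by decide +kernel, by decide +kernel⟩

theorem closure_VK : closure ({aF, bF} : Set KF) = VK := by
  refine le_antisymm ((closure_le _).2 ?_) fun k hk => ?_
  · rintro _ (rfl | rfl)
    · exact List.mem_cons_of_mem _ (List.mem_cons_self ..)
    · exact List.mem_cons_of_mem _ (List.mem_cons_of_mem _ (List.mem_cons_self ..))
  · have hk' : k ∈ [1, aF, bF, aF * bF] := hk
    simp only [List.mem_cons, List.not_mem_nil, or_false] at hk'
    rcases hk' with rfl | rfl | rfl | rfl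
    exacts [one_mem _, subset_closure (Or.inl rfl), subset_closure (Or.inr rfl),
      mul_mem (subset_closure (Or.inl rfl)) (subset_closure (Or.inr rfl))]

theorem card_VK : Nat.card VK = 4 := by
  show Nat.card {k : KF | k ∈ [1, aF, bF, aF * bF]} = 4
  rw [Nat.card_coe_set_eq, ← List.coe_toFinset, Set.ncard_coe_finset,
    List.toFinset_card_of_nodup VK_facts.2]
  rfl

variable {G : Type u} [Group G] [Finite G] {S : Setup G}

theorem V_eq (S : Setup G) : S.V = VK.map S.ψ := by
  rw [← closure_VK, MonoidHom.map_closure, Set.image_pair]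
  rfl

/-- A normal subgroup of order prime to three of index at most six is invariant. -/
theorem invariant_of_top {C : Type u} [Group C] [Finite C] {W : Subgroup C} [W.Normal]
    (h3 : (Nat.card W).Coprime 3)
    (hq : Nat.card (C ⧸ W) = 3 ∨ Nonempty (C ⧸ W ≃* Perm (Fin 3))) (f : C ≃* C) :
    ∀ w ∈ W, f w ∈ W := by
  classical
  let θ : W →* C ⧸ W := (QuotientGroup.mk' W).comp (f.toMonoidHom.comp W.subtype)
  have hdW : Nat.card θ.range ∣ Nat.card W := Subgroup.card_range_dvd θ
  have hdQ : Nat.card θ.range ∣ Nat.card (C ⧸ W) := Subgroup.card_subgroup_dvd_card _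
  have hQ6 : Nat.card (C ⧸ W) ∣ 6 := by
    rcases hq with h | ⟨⟨e⟩⟩
    · rw [h]; norm_num
    · rw [Nat.card_congr e.toEquiv, Nat.card_perm, Nat.card_fin]
      decide
  have h2 : Nat.card θ.range ∣ 2 := by
    have hc : (Nat.card θ.range).Coprime 3 := Nat.Coprime.coprime_dvd_left hdW h3
    exact hc.dvd_of_dvd_mul_right (show Nat.card θ.range ∣ 2 * 3 from hdQ.trans hQ6)
  intro w hw
  have hrange : θ.range = ⊥ := by
    by_contra hne
    have hcard : Nat.card θ.range = 2 :=
      ((Nat.dvd_prime Nat.prime_two).1 h2).resolve_left fun h => hne (card_eq_one.1 h)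
    rcases hq with h | ⟨⟨e⟩⟩
    · rw [hcard, h] at hdQ
      norm_num at hdQ
    · obtain ⟨⟨q, hq'⟩, hq1⟩ := (ne_bot_iff_exists_ne_one).1 hne
      have hq1' : q ≠ 1 := fun h => hq1 (Subtype.ext h)
      have hcen : ∀ r : C ⧸ W, r * q = q * r := by
        intro r
        obtain ⟨c, rfl⟩ := QuotientGroup.mk'_surjective W r
        obtain ⟨⟨v, hv⟩, hvq⟩ := hq'
        have hmem : QuotientGroup.mk' W c * q * (QuotientGroup.mk' W c)⁻¹ ∈ θ.range := by
          refine ⟨⟨f.symm c * v * (f.symm c)⁻¹, (inferInstance : W.Normal).conj_mem v hv _⟩, ?_⟩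
          rw [← hvq]
          show QuotientGroup.mk' W (f (f.symm c * v * (f.symm c)⁻¹)) = _
          rw [map_mul f, map_mul f, map_inv f, MulEquiv.apply_symm_apply, map_mul, map_mul, map_inv]
          rfl
        have hall : ∀ a ∈ θ.range, a = 1 ∨ a = q := by
          intro a ha
          by_contra hne'
          push Not at hne'
          haveI := Fintype.ofFinite θ.range
          have : 3 ≤ Nat.card θ.range := by
            rw [Nat.card_eq_fintype_card]
            refine le_trans ?_ (Finset.card_le_univ ({(1 : θ.range), (⟨q, ⟨v, hv⟩, hvq⟩ : θ.range), (⟨a, ha⟩ : θ.range)} : Finset θ.range))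
            refine le_of_eq (Finset.card_eq_three.2
              ⟨(1 : θ.range), (⟨q, ⟨v, hv⟩, hvq⟩ : θ.range), (⟨a, ha⟩ : θ.range), ?_, ?_, ?_, rfl⟩).symm
            · exact fun h => hq1' (congrArg Subtype.val h).symm
            · exact fun h => hne'.1 (congrArg Subtype.val h).symm
            · exact fun h => hne'.2 (congrArg Subtype.val h).symm
          omega
        rcases hall _ hmem with h | h
        · exact absurd (conj_eq_one_iff.1 h) hq1'
        · exact mul_inv_eq_iff_eq_mul.1 h
      have := center_perm_three (e q) fun r => by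
        obtain ⟨r, rfl⟩ := e.surjective r
        rw [← map_mul, hcen, map_mul]
      exact hq1' (e.injective (this.trans (map_one e).symm))
  have h1 : θ ⟨w, hw⟩ = 1 := by
    have : θ ⟨w, hw⟩ ∈ θ.range := ⟨_, rfl⟩
    rwa [hrange, mem_bot] at this
  exact (QuotientGroup.eq_one_iff _).1 h1

theorem Emb8.mem_centV (E : Emb8 S) {x : G} :
    x ∈ centralizer (S.V : Set G) ↔ x * E.ι av = E.ι av * x ∧ x * E.ι bv = E.ι bv * x := by
  rw [Setup.V, centralizer_closure, mem_centralizer_iff, ← j8_facts.2.2.1, ← j8_facts.2.2.2.1,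
    E.comp, E.comp]
  simp only [Set.mem_insert_iff, Set.mem_singleton_iff, forall_eq_or_imp, forall_eq]
  exact ⟨fun h => ⟨h.1.symm, h.2.symm⟩, fun h => ⟨h.1.symm, h.2.symm⟩⟩

theorem Emb8.D_le_normalizer (E : Emb8 S) :
    S.D ≤ normalizer ((centralizer (S.V : Set G) : Subgroup G) : Set G) := by
  set C := centralizer (S.V : Set G) with hC
  have hmemC : ∀ x : G, x ∈ C ↔ x * S.ψ aF = S.ψ aF * x ∧ x * S.ψ bF = S.ψ bF * x := fun x => by
    rw [hC, E.mem_centV, ← E.comp, ← E.comp, j8_facts.2.2.1, j8_facts.2.2.2.1]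
  obtain ⟨hz3, -, -, hza, hzb, -, -, hd1, hd2, -⟩ := zd_facts
  have key : ∀ n : KF, n * n * n = 1 →
      (∀ c ∈ [aF, bF], n⁻¹ * c * n ∈ [aF, bF, aF * bF]) → S.ψ n ∈ normalizer (C : Set G) := by
    intro n hn3 hn
    have fwd : ∀ x ∈ C, S.ψ n * x * (S.ψ n)⁻¹ ∈ C := by
      intro x hx
      obtain ⟨ha, hb⟩ := (hmemC x).1 hx
      have mv : ∀ c ∈ [aF, bF], S.ψ n * x * (S.ψ n)⁻¹ * S.ψ c =
          S.ψ c * (S.ψ n * x * (S.ψ n)⁻¹) := by
        intro c hc
        have h : Commute x (S.ψ (n⁻¹ * c * n)) := by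
          have := hn c hc
          simp only [List.mem_cons, List.not_mem_nil, or_false] at this
          rcases this with e | e | e <;> rw [e]
          · exact ha
          · exact hb
          · rw [map_mul]; exact Commute.mul_right ha hb
        have h' := h.eq
        rw [map_mul, map_mul, map_inv] at h'
        calc S.ψ n * x * (S.ψ n)⁻¹ * S.ψ c
            = S.ψ n * (x * ((S.ψ n)⁻¹ * S.ψ c * S.ψ n)) * (S.ψ n)⁻¹ := by group
          _ = S.ψ n * ((S.ψ n)⁻¹ * S.ψ c * S.ψ n * x) * (S.ψ n)⁻¹ := by rw [h']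
          _ = _ := by group
      exact (hmemC _).2 ⟨mv aF (by simp), mv bF (by simp)⟩
    refine mem_normalizer_iff.2 fun x => ⟨fwd x, fun hx => ?_⟩
    have h3 : S.ψ n * S.ψ n * S.ψ n = 1 := by rw [← map_mul, ← map_mul, hn3, map_one]
    have := fwd _ (fwd _ hx)
    have e : S.ψ n * (S.ψ n * (S.ψ n * x * (S.ψ n)⁻¹) * (S.ψ n)⁻¹) * (S.ψ n)⁻¹ =
        (S.ψ n * S.ψ n * S.ψ n) * x * (S.ψ n * S.ψ n * S.ψ n)⁻¹ := by group
    rwa [e, h3, one_mul, inv_one, mul_one] at this
  refine (closure_le _).2 ?_
  rintro _ (rfl | rfl)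
  · exact key zF hz3 (by decide +kernel)
  · exact key dF (by decide +kernel) (by decide +kernel)

theorem Emb8.centV_le (E : Emb8 S) : centralizer (S.V : Set G) ≤ E.ι.range := by
  classical
  haveI : Fact (Nat.Prime 3) := ⟨Nat.prime_three⟩
  set C := centralizer (S.V : Set G) with hC
  have hDN : S.D ≤ normalizer (C : Set G) := E.D_le_normalizer
  have hpow : ∀ x ∈ C, x ∈ E.ι.range → x ^ 12 = 1 := by
    rintro x hx ⟨m, rfl⟩
    obtain ⟨ha, hb⟩ := E.mem_centV.1 hx
    rw [← map_pow, cent_V_pow (E.comm_iff.1 ha) (E.comm_iff.1 hb), map_one]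
  have hzC : S.ψ zF ∈ C := E.mem_centV.2 ⟨by
      rw [← j8_facts.2.2.1, E.comp]; exact S.map_comm zd_facts.2.2.2.1, by
      rw [← j8_facts.2.2.2.1, E.comp]; exact S.map_comm zd_facts.2.2.2.2.1⟩
  set z : C := ⟨S.ψ zF, hzC⟩ with hz
  have hz3 : z ^ 3 = 1 := Subtype.ext (by
    show S.ψ zF ^ 3 = 1
    rw [← map_pow, facts_comm.2.2.2.2.2.2.2.1, map_one])
  have hVC : S.V ≤ C := by
    rw [V_eq]
    rintro _ ⟨k, hk, rfl⟩
    obtain ⟨-, hka, hkb⟩ := VK_facts.1 k hk
    refine E.mem_centV.2 ⟨?_, ?_⟩
    · rw [← j8_facts.2.2.1, E.comp]; exact S.map_comm hka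
    · rw [← j8_facts.2.2.2.1, E.comp]; exact S.map_comm hkb
  set Vc : Subgroup C := S.V.subgroupOf C with hVc
  haveI : Vc.Normal := ⟨fun v hv c => by
    rw [mem_subgroupOf] at hv ⊢
    have : (c : G) * v = v * c := (mem_centralizer_iff.1 c.2 _ hv).symm
    simpa [coe_mul, coe_inv, this] using hv⟩
  have hVcard : Nat.card Vc = 4 := by
    rw [Nat.card_congr (subgroupOfEquivOfLe hVC).toEquiv, V_eq, card_map_of_injective S.inj,
      card_VK]
  have hVsq : ∀ v ∈ Vc, v * v = 1 ∧ ∀ c : C, c * v = v * c := by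
    intro v hv
    rw [mem_subgroupOf] at hv
    refine ⟨Subtype.ext ?_, fun c => Subtype.ext (mem_centralizer_iff.1 c.2 _ hv).symm⟩
    rw [V_eq] at hv
    obtain ⟨k, hk, hkv⟩ := hv
    show (v : G) * v = 1
    rw [← hkv, ← map_mul, (VK_facts.1 k hk).1, map_one]
  have hzV : z ∉ Vc := fun h => by
    have h2 := (hVsq z h).1
    have : z = 1 := by
      calc z = z ^ 3 * (z * z)⁻¹ := by group
        _ = 1 := by rw [hz3, h2, inv_one, mul_one]
    exact facts_comm.2.2.2.2.2.2.2.2.2.1 (S.inj ((congrArg Subtype.val this).trans (map_one _).symm))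
  set π := QuotientGroup.mk' Vc with hπ
  have hzo : orderOf (π z) = 3 := orderOf_eq_prime (by rw [← map_pow, hz3, map_one])
    fun h => hzV ((QuotientGroup.eq_one_iff z).1 h)
  set X : Subgroup (C ⧸ Vc) := zpowers (π z) with hX
  have hXcard : Nat.card X = 3 := by rw [hX, Nat.card_zpowers, hzo]
  have hXcent : centralizer (X : Set (C ⧸ Vc)) = X := by
    refine le_antisymm (fun q hq => ?_) fun q hq => ?_
    · obtain ⟨x, rfl⟩ := QuotientGroup.mk'_surjective Vc q
      have hc : π z * π x = π x * π z := mem_centralizer_iff.1 hq _ (mem_zpowers _)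
      have hv : x * z * x⁻¹ * z⁻¹ ∈ Vc := by
        refine (QuotientGroup.eq_one_iff _).1 ?_
        show π (x * z * x⁻¹ * z⁻¹) = 1
        rw [map_mul, map_mul, map_mul, map_inv, map_inv, ← hc]
        group
      obtain ⟨hv2, hvc⟩ := hVsq _ hv
      generalize hvdef : x * z * x⁻¹ * z⁻¹ = v at hv hv2 hvc
      have he : x * z * x⁻¹ = v * z := by rw [← hvdef]; group
      have hv3 : v ^ 3 = 1 := by
        have := congrArg (fun c : C => c ^ 3) he
        simp only [conj_pow, hz3, (show Commute v z from (hvc z).symm).mul_pow, mul_one,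
          mul_inv_cancel] at this
        exact this.symm
      have hv1 : v = 1 := by
        rw [pow_succ, pow_two, hv2, one_mul] at hv3
        exact hv3
      rw [hv1, one_mul, mul_inv_eq_iff_eq_mul] at he
      obtain ⟨k, hk⟩ := S.cent_z_le (mem_centralizer_singleton_iff.2
        (congrArg Subtype.val he : (x : G) * S.ψ zF = S.ψ zF * x))
      obtain ⟨hxa, hxb⟩ := E.mem_centV.1 x.2
      rw [← hk, ← j8_facts.2.2.1, E.comp] at hxa
      rw [← hk, ← j8_facts.2.2.2.1, E.comp] at hxb
      obtain ⟨i, v', hv', hki⟩ := cent_zV k (S.comm_of_map (by rw [hk]; exact congrArg Subtype.val he))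
        (S.comm_of_map hxa) (S.comm_of_map hxb)
      have hvV : S.ψ v' ∈ S.V := by
        rw [V_eq]
        exact mem_map_of_mem S.ψ (show v' ∈ VK from hv')
      have hxe : x = z ^ i.1 * (⟨S.ψ v', hVC hvV⟩ : C) :=
        Subtype.ext (by show (x : G) = S.ψ zF ^ i.1 * S.ψ v'; rw [← hk, hki, map_mul, map_pow])
      rw [hxe, map_mul, map_pow,
        show π (⟨S.ψ v', hVC hvV⟩ : C) = 1 from (QuotientGroup.eq_one_iff _).2
          (mem_subgroupOf.2 hvV), mul_one]
      exact pow_mem (mem_zpowers _) _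
    · refine mem_centralizer_iff.2 fun w hw => ?_
      obtain ⟨i, rfl⟩ := mem_zpowers_iff.1 hw
      obtain ⟨j, rfl⟩ := mem_zpowers_iff.1 hq
      rw [← zpow_add, ← zpow_add, add_comm]
  have hCY : Nat.card C = Nat.card (C ⧸ Vc) * 4 := hVcard ▸ card_eq_card_quotient_mul_card_subgroup Vc
  -- `D` acts on `C`
  have hconj : ∀ (x : S.D) (c : C), (x : G) * c * (x : G)⁻¹ ∈ C := fun x c =>
    (mem_normalizer_iff.1 (hDN x.2) c).1 c.2
  let a : S.D →* MulAut C :=
    { toFun := fun x =>
        { toFun := fun c => ⟨(x : G) * c * (x : G)⁻¹, hconj x c⟩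
          invFun := fun c => ⟨(x⁻¹ : S.D) * c * ((x⁻¹ : S.D) : G)⁻¹, hconj x⁻¹ c⟩
          left_inv := fun c => Subtype.ext (by simp [mul_assoc])
          right_inv := fun c => Subtype.ext (by simp [mul_assoc])
          map_mul' := fun c d => Subtype.ext (by simp [mul_assoc]) }
      map_one' := MulEquiv.ext fun c => Subtype.ext (by simp)
      map_mul' := fun x y => MulEquiv.ext fun c => Subtype.ext (by simp [mul_assoc]) }
  have ha : ∀ (x : S.D) (c : C), ((a x c : C) : G) = x * c * (x : G)⁻¹ := fun x c => rfl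
  letI : MulDistribMulAction S.D C := MulDistribMulAction.compHom C a
  have hsmul : ∀ (x : S.D) (c : C), ((x • c : C) : G) = x * c * (x : G)⁻¹ := ha
  rcases Cfsg.Agent.S3331.result X hXcard hXcent with ⟨N, hN, -, hN3, hq⟩ | h23
  · -- a normal 3-complement
    haveI := hN
    set W : Subgroup C := N.comap π with hW
    haveI : W.Normal := Subgroup.Normal.comap hN π
    have hWi : W.index = N.index := index_comap_of_surjective N (QuotientGroup.mk'_surjective Vc)
    have hW4 : Nat.card W = 4 * Nat.card N := by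
      have e1 := W.card_mul_index
      rw [hWi, hCY, ← N.card_mul_index] at e1
      exact Nat.eq_of_mul_eq_mul_right (Nat.pos_of_ne_zero N.index_ne_zero_of_finite)
        (e1.trans (by ring))
    have hW3 : (Nat.card W).Coprime 3 := by
      rw [hW4]; exact Nat.Coprime.mul_left (by norm_num) hN3
    have hq' : Nat.card (C ⧸ W) = 3 ∨ Nonempty (C ⧸ W ≃* Perm (Fin 3)) := by
      let θ : C →* (C ⧸ Vc) ⧸ N := (QuotientGroup.mk' N).comp π
      have hθ : Function.Surjective θ :=
        (QuotientGroup.mk'_surjective N).comp (QuotientGroup.mk'_surjective Vc)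
      have hk : W = θ.ker := by
        rw [← MonoidHom.comap_ker, QuotientGroup.ker_mk']
      let e : C ⧸ W ≃* (C ⧸ Vc) ⧸ N :=
        (QuotientGroup.quotientMulEquivOfEq hk).trans (QuotientGroup.quotientKerEquivOfSurjective θ hθ)
      rcases hq with h | ⟨⟨f⟩⟩
      · exact Or.inl ((Nat.card_congr e.toEquiv).trans h)
      · exact Or.inr ⟨e.trans f⟩
    set Wg : Subgroup G := W.map C.subtype with hWg
    have hinv : ∀ (x : S.D) (w : C), w ∈ W → x • w ∈ W := fun x w hw =>
      invariant_of_top hW3 hq' (MulDistribMulAction.toMulEquiv C x) w hw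
    have hDW : S.D ≤ normalizer (Wg : Set G) := by
      intro x hx
      refine mem_normalizer_iff.2 fun w => ⟨?_, ?_⟩
      · rintro ⟨v, hv, rfl⟩
        exact ⟨(⟨x, hx⟩ : S.D) • v, hinv _ v hv, hsmul _ v⟩
      · rintro ⟨v, hv, hv'⟩
        refine ⟨(⟨x, hx⟩ : S.D)⁻¹ • v, hinv _ v hv, ?_⟩
        rw [coe_subtype, hsmul]
        show x⁻¹ * (v : G) * x⁻¹⁻¹ = w
        rw [show (v : G) = x * w * x⁻¹ from hv']
        group
    have hWle : Wg ≤ E.ι.range := E.le_range hDW (by
      rw [card_map_of_injective C.subtype_injective]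
      exact (Nat.Prime.coprime_iff_not_dvd Nat.prime_three).1 hW3.symm)
    -- the image of the range is everything
    set H : Subgroup C := E.ι.range.subgroupOf C with hH
    have hWH : W ≤ H := fun w hw => mem_subgroupOf.2 (hWle ⟨w, hw, rfl⟩)
    have heC : S.ψ eF ∈ C := E.mem_centV.2 ⟨by
        rw [← j8_facts.2.2.1, E.comp]; exact S.map_comm zd_facts.2.2.2.2.2.2.2.2.2.2.2.1, by
        rw [← j8_facts.2.2.2.1, E.comp]; exact S.map_comm zd_facts.2.2.2.2.2.2.2.2.2.2.2.2.1⟩
    set e : C := ⟨S.ψ eF, heC⟩ with he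
    set ρ := QuotientGroup.mk' W with hρ
    have hzW : ρ z ≠ 1 := fun h => by
      have hzW' : z ∈ W := (QuotientGroup.eq_one_iff z).1 h
      have := orderOf_dvd_natCard (⟨z, hzW'⟩ : W)
      rw [orderOf_mk, orderOf_eq_prime hz3 (fun e1 => hzV (e1 ▸ one_mem Vc))] at this
      exact (Nat.Prime.coprime_iff_not_dvd Nat.prime_three).1 hW3.symm this
    have hmapH : H.map ρ = ⊤ := by
      have hzH : ρ z ∈ H.map ρ := ⟨z, mem_subgroupOf.2 ⟨j8 zF, E.comp zF⟩, rfl⟩
      have heH : ρ e ∈ H.map ρ := ⟨e, mem_subgroupOf.2 ⟨j8 eF, E.comp eF⟩, rfl⟩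
      have hzo' : orderOf (ρ z) = 3 := orderOf_eq_prime (by rw [← map_pow, hz3, map_one]) hzW
      have h3 : 3 ∣ Nat.card (H.map ρ) := hzo' ▸ Subgroup.orderOf_dvd_natCard _ hzH
      have hd : Nat.card (H.map ρ) ∣ Nat.card (C ⧸ W) := card_subgroup_dvd_card _
      rcases hq' with h | ⟨⟨f⟩⟩
      · rw [← card_eq_iff_eq_top]
        exact Nat.dvd_antisymm hd (h ▸ h3)
      · have hc6 : Nat.card (C ⧸ W) = 6 := by
          rw [Nat.card_congr f.toEquiv, Nat.card_perm, Nat.card_fin]; rfl
        rw [← card_eq_iff_eq_top, hc6]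
        rw [hc6] at hd
        obtain ⟨c, hc⟩ := h3
        have hc2 : c ∣ 2 := (Nat.mul_dvd_mul_iff_left (by norm_num : 0 < 3)).1
          (show 3 * c ∣ 3 * 2 by rw [← hc]; exact hd)
        rcases (Nat.dvd_prime Nat.prime_two).1 hc2 with rfl | rfl
        · exfalso
          haveI : Fact (Nat.card (H.map ρ)).Prime := ⟨by rw [hc]; norm_num⟩
          haveI : IsCyclic (H.map ρ) := isCyclic_of_prime_card rfl
          have hcomm := congrArg Subtype.val (mul_comm' (⟨ρ e, heH⟩ : H.map ρ) ⟨ρ z, hzH⟩)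
          have hez : e * z * e⁻¹ = z⁻¹ := Subtype.ext (by
            show S.ψ eF * S.ψ zF * (S.ψ eF)⁻¹ = (S.ψ zF)⁻¹
            rw [S.map_conj facts_comm.2.2.2.2.2.2.1, map_inv])
          have h1 := congrArg ρ hez
          rw [map_mul, map_mul, map_inv, map_inv, show ρ e * ρ z = ρ z * ρ e from hcomm,
            mul_inv_cancel_right, eq_inv_iff_mul_eq_one] at h1
          have h3' : ρ z ^ 3 = 1 := by rw [← map_pow, hz3, map_one]
          rw [pow_succ, pow_two, h1, one_mul] at h3'
          exact hzW h3'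
        · omega
    have htop : H = ⊤ := by
      have := congrArg (Subgroup.comap ρ) hmapH
      rwa [comap_map_eq, comap_top, QuotientGroup.ker_mk', sup_eq_left.2 hWH] at this
    intro x hx
    exact mem_subgroupOf.1 (htop ▸ mem_top (⟨x, hx⟩ : C))
  · -- the simple quotients
    exfalso
    have hfin : ∀ p : ℕ, p.Prime → p ∣ Nat.card C → ¬ p ∣ 12 → ∀ P : Sylow p C,
        ¬ ((P : Subgroup C).map C.subtype ≤ E.ι.range) := by
      intro p hp hpC hp12 P hle
      haveI := Fact.mk hp
      have hd : p ∣ Nat.card (P : Subgroup C) := P.dvd_card_of_dvd_card hpC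
      obtain ⟨⟨x, hx⟩, hxo⟩ := exists_prime_orderOf_dvd_card' p hd
      rw [orderOf_mk, ← Subgroup.orderOf_coe] at hxo
      exact hp12 (hxo ▸ orderOf_dvd_of_pow_eq_one (hpow _ x.2 (hle ⟨x, hx, rfl⟩)))
    have hDp : IsPGroup 3 S.D := IsPGroup.of_card (n := 2) (by rw [S.card_D]; norm_num)
    rcases h23 with ⟨N, hN, -, hN2, ⟨e⟩⟩ | he7
    · haveI := hN
      haveI : Fact (Nat.Prime 2) := ⟨Nat.prime_two⟩
      haveI : Fact (Nat.Prime 5) := ⟨by norm_num⟩
      obtain ⟨n, hn⟩ := IsPGroup.iff_card.1 (show IsPGroup 2 N from fun x =>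
        ⟨1, Subtype.ext (by rw [pow_one, coe_pow]; exact hN2 x.1 x.2)⟩)
      have hcC : Nat.card C = 2 ^ n * 240 := by
        rw [hCY, card_eq_card_quotient_mul_card_subgroup N, hn, Nat.card_congr e.toEquiv,
          nat_card_alternatingGroup, Nat.card_fin]
        norm_num [Nat.factorial]
        ring
      have h5C : 5 ∣ Nat.card C := by rw [hcC]; exact dvd_mul_of_dvd_right (by norm_num) _
      have h9 : ¬ 9 ∣ Nat.card C := by
        rw [hcC]
        intro h
        have := (Nat.Coprime.pow 1 n (show Nat.Coprime 9 2 by norm_num)).dvd_of_dvd_mul_left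
          (by rwa [pow_one] at *)
        norm_num at this
      have h25 : ∀ P : Sylow 5 C, Nat.card P = 5 := by
        intro P
        have h5n : (Nat.card C).factorization 5 = 1 := by
          rw [hcC, Nat.factorization_mul (by positivity) (by norm_num), Nat.factorization_pow,
            Finsupp.add_apply, Finsupp.smul_apply,
            Nat.factorization_eq_zero_of_not_dvd (show ¬ 5 ∣ 2 by norm_num), smul_zero, zero_add,
            show (240 : ℕ) = 5 * 48 by norm_num, Nat.factorization_mul (by norm_num) (by norm_num),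
            Finsupp.add_apply, Nat.Prime.factorization_self (by norm_num),
            Nat.factorization_eq_zero_of_not_dvd (show ¬ 5 ∣ 48 by norm_num)]
        rw [P.card_eq_multiplicity, h5n, pow_one]
      -- some nontrivial element of `D` fixes a Sylow 5-subgroup
      obtain ⟨P, x, hx1, hxP⟩ : ∃ P : Sylow 5 C, ∃ x : S.D, x ≠ 1 ∧ x • P = P := by
        by_contra hno
        push Not at hno
        have key : ∀ P : Sylow 5 C, MulAction.stabilizer S.D P = ⊥ := fun P =>
          eq_bot_iff.2 fun x hx => by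
            by_contra h
            exact hno P x h hx
        refine h9 ((S.card_D ▸ ?_ : 9 ∣ Nat.card (Sylow 5 C)).trans
          ((Sylow.card_dvd_index default).trans (index_dvd_card _)))
        haveI := Fintype.ofFinite (Sylow 5 C)
        rw [Nat.card_congr (MulAction.selfEquivSigmaOrbits S.D (Sylow 5 C)), Nat.card_sigma]
        refine Finset.dvd_sum fun ω _ => ?_
        rw [Nat.card_congr (MulAction.orbitEquivQuotientStabilizer S.D _), ← Subgroup.index_eq_card,
          key, index_bot]
      refine hfin 5 (by norm_num) h5C (by norm_num) P fun g hg => ?_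
      obtain ⟨p, hp, rfl⟩ := hg
      have hxD : (x : G) ≠ 1 := fun h => hx1 (Subtype.ext h)
      refine E.cent_D_le x.2 hxD (mem_centralizer_singleton_iff.2 ?_)
      have hp5 : p ^ 5 = 1 := by
        have h := pow_card_eq_one' (x := (⟨p, hp⟩ : (P : Subgroup C)))
        rw [h25] at h
        exact congrArg Subtype.val h
      have hxp : x • p ∈ (P : Subgroup C) := by
        rw [← hxP, Sylow.pointwise_smul_def]
        exact smul_mem_pointwise_smul p x _ hp
      have hfix : x • p = p := by
        by_cases hp1 : p = 1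
        · rw [hp1, smul_one]
        have hpo : orderOf p = 5 := orderOf_eq_prime hp5 hp1
        have hgen : zpowers p = (P : Subgroup C) := eq_of_le_of_card_ge (zpowers_le.2 hp)
          (by rw [h25, Nat.card_zpowers, hpo])
        obtain ⟨i, hi⟩ := mem_zpowers_iff.1 (hgen.symm ▸ hxp : x • p ∈ zpowers p)
        have hx3 : x ^ 3 = 1 := Subtype.ext (pow_three_of_mem_D S x.2)
        have e3 : p ^ (i * i * i) = p := by
          have h := congrArg (· • p) hx3
          simp only [one_smul, pow_succ, pow_zero, one_mul, mul_smul] at h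
          rw [← hi, smul_zpow', ← hi, ← zpow_mul, smul_zpow', ← hi, ← zpow_mul] at h
          rwa [mul_assoc]
        rw [← hi]
        conv_rhs => rw [← zpow_one p]
        rw [zpow_eq_zpow_iff_modEq, hpo]
        have e3' : (p : C) ^ (i * i * i) = p ^ (1 : ℤ) := by rw [zpow_one, e3]
        rw [zpow_eq_zpow_iff_modEq, hpo] at e3'
        simp only [Int.ModEq, Nat.cast_ofNat] at e3' ⊢
        have h0 : (0 : ℤ) ≤ i % 5 := Int.emod_nonneg _ (by norm_num)
        have h4 : i % 5 < 5 := Int.emod_lt_of_pos _ (by norm_num)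
        have e : i * i * i % 5 = (i % 5) * (i % 5) * (i % 5) % 5 := by
          simp [Int.mul_emod]
        rw [e] at e3'
        rcases (by omega : i % 5 = 0 ∨ i % 5 = 1 ∨ i % 5 = 2 ∨ i % 5 = 3 ∨ i % 5 = 4) with
          h | h | h | h | h <;> rw [h] at e3' ⊢ <;> first | rfl | norm_num at e3'
      have := hsmul x p
      rw [hfix] at this
      show (p : G) * x = x * p
      rw [mul_inv_eq_iff_eq_mul.1 this.symm]
    · obtain ⟨e⟩ := he7
      haveI : Fact (Nat.Prime 7) := ⟨by norm_num⟩
      have hcC : Nat.card C = 672 := by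
        rw [hCY, Nat.card_congr e.toEquiv, CfsgLib.Classical.card_PSL_two, Nat.card_zmod]
        norm_num
      have h7C : 7 ∣ Nat.card C := by rw [hcC]; norm_num
      have hn : ¬ 3 ∣ Nat.card (Sylow 7 C) := by
        intro h3
        have h1 := card_sylow_modEq_one 7 C
        have hfac : (Nat.card C).factorization 7 = 1 := by
          rw [hcC, show (672 : ℕ) = 7 * 96 by norm_num, Nat.factorization_mul (by norm_num)
            (by norm_num), Finsupp.add_apply, Nat.Prime.factorization_self (by norm_num),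
            Nat.factorization_eq_zero_of_not_dvd (show ¬ 7 ∣ 96 by norm_num)]
        let P : Sylow 7 C := default
        have hd := P.card_dvd_index
        have hi : (P : Subgroup C).index = 96 := by
          have := (P : Subgroup C).card_mul_index
          rw [P.card_eq_multiplicity, hfac, pow_one, hcC] at this
          omega
        rw [hi] at hd
        have := Nat.le_of_dvd (by norm_num) hd
        generalize Nat.card (Sylow 7 C) = n at *
        simp only [Nat.ModEq] at h1
        interval_cases n <;> omega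
      obtain ⟨P, hP⟩ := hDp.nonempty_fixed_point_of_prime_not_dvd_card (Sylow 7 C) hn
      refine hfin 7 (by norm_num) h7C (by norm_num) P (E.le_range ?_ ?_)
      · intro x hx
        have fwd : ∀ y : S.D, ∀ w : C, w ∈ (P : Subgroup C) → y • w ∈ (P : Subgroup C) := by
          intro y w hw
          rw [← hP y, Sylow.pointwise_smul_def]
          exact smul_mem_pointwise_smul w y _ hw
        refine mem_normalizer_iff.2 fun w => ⟨?_, ?_⟩
        · rintro ⟨v, hv, rfl⟩
          exact ⟨(⟨x, hx⟩ : S.D) • v, fwd _ v hv, hsmul _ v⟩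
        · rintro ⟨v, hv, hv'⟩
          refine ⟨(⟨x, hx⟩ : S.D)⁻¹ • v, fwd _ v hv, ?_⟩
          rw [coe_subtype, hsmul]
          show x⁻¹ * (v : G) * x⁻¹⁻¹ = w
          rw [show (v : G) = x * w * x⁻¹ from hv']
          group
      · rw [card_map_of_injective C.subtype_injective]
        obtain ⟨m, hm⟩ := IsPGroup.iff_card.1 P.2
        rw [hm]
        intro h
        have := Nat.prime_three.dvd_of_dvd_pow h
        norm_num at this

end CfsgLib.SEightThree.SymIso
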