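import Cfsg.Agent.Lib.SEightThree.SymIso.Hom
import Cfsg.Agent.Lib.SEightThree.Common

/-!
The classes of involutions of the symmetric subgroup stay apart.
-/

set_option autoImplicit false
set_option linter.style.haveILetI false
set_option linter.unusedSectionVars false
set_option maxRecDepth 100000

namespace CfsgLib.SEightThree.SymIso

open Equiv Subgroup

universe u

theorem exists_nine {G : Type u} [Group G] [Finite G] (hn : ¬ 27 ∣ Nat.card G) {x k : G}
    (hk : k ^ 3 = 1) (hkx : k * x = x * k) (h9 : 9 ∣ Nat.card (centralizer ({x} : Set G))) :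
    ∃ R : Subgroup G, k ∈ R ∧ Nat.card R = 9 ∧
      ∀ r ∈ R, r * x = x * r ∧ r * k = k * r ∧ r ^ 9 = 1 := by
  haveI : Fact (Nat.Prime 3) := ⟨Nat.prime_three⟩
  set C := centralizer ({x} : Set G) with hC
  let kC : C := ⟨k, mem_centralizer_singleton_iff.2 hkx⟩
  have hp : IsPGroup 3 (zpowers kC) := by
    rintro ⟨y, hy⟩
    obtain ⟨n, rfl⟩ := mem_zpowers_iff.1 hy
    refine ⟨1, Subtype.ext (Subtype.ext ?_)⟩
    show (k ^ n) ^ (3 ^ 1) = 1
    rw [pow_one, ← zpow_natCast, ← zpow_mul, mul_comm, zpow_mul, zpow_natCast, hk, one_zpow]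
  obtain ⟨P, hP⟩ := hp.exists_le_sylow
  obtain ⟨m, hm⟩ := IsPGroup.iff_card.1 P.2
  have h2 : 2 ≤ m := by
    have := P.pow_dvd_card_of_pow_dvd_card (n := 2) h9
    rw [hm] at this
    exact (Nat.pow_dvd_pow_iff_le_right (by norm_num)).1 this
  have h3 : m ≤ 2 := by
    by_contra h
    exact hn ((pow_dvd_pow 3 (show 3 ≤ m by omega)).trans
      (hm ▸ (P.1.card_subgroup_dvd_card.trans C.card_subgroup_dvd_card)))
  obtain rfl : m = 2 := le_antisymm h3 h2
  refine ⟨(P : Subgroup C).map C.subtype, ⟨kC, hP (mem_zpowers _), rfl⟩, ?_, ?_⟩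
  · rw [card_map_of_injective C.subtype_injective, hm]; norm_num
  · rintro _ ⟨r, hr, rfl⟩
    haveI := IsPGroup.isMulCommutative_of_card_eq_prime_sq (p := 3) hm
    refine ⟨mem_centralizer_singleton_iff.1 r.2, ?_, ?_⟩
    · exact congrArg (fun w : C => (w : G)) (congrArg Subtype.val
        (mul_comm' (⟨r, hr⟩ : (P : Subgroup C)) ⟨kC, hP (mem_zpowers _)⟩))
    · have h := pow_card_eq_one' (x := (⟨r, hr⟩ : (P : Subgroup C)))
      rw [hm] at h
      exact congrArg (fun w : C => (w : G)) (congrArg Subtype.val h)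

variable {G : Type u} [Group G] [Finite G] {S : Setup G}

/-- The centralizer of `(0 1 2)(5 6 7)` is inside the image. -/
theorem Emb8.cent_yy (E : Emb8 S) {x : G} (hx : x * E.ι yy = E.ι yy * x) : x ∈ E.ι.range := by
  classical
  have hy : E.ι yy = S.ψ zF * S.ψ dF := by rw [← map_mul, ← E.comp]; rfl
  set C := centralizer ({S.ψ zF * S.ψ dF} : Set G) with hC
  let f : Fin 3 × Fin 3 × Fin 2 × Fin 2 → C := fun p => ⟨E.ι (cy p),
    mem_centralizer_singleton_iff.2 (by rw [← hy, ← map_mul, cy_comm, map_mul])⟩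
  have hf : Function.Bijective f := (Nat.bijective_iff_injective_and_card f).2
    ⟨fun p q h => cy_inj (E.inj (congrArg Subtype.val h)), by rw [hC, S.card_y]; simp⟩
  obtain ⟨p, hp⟩ := hf.2 ⟨x, mem_centralizer_singleton_iff.2 (hy ▸ hx)⟩
  exact ⟨cy p, congrArg Subtype.val hp⟩

theorem Emb8.comm_iff (E : Emb8 S) {m n : S8} :
    E.ι m * E.ι n = E.ι n * E.ι m ↔ m * n = n * m :=
  ⟨fun h => E.inj (by rw [map_mul, h, map_mul]), fun h => by rw [← map_mul, h, map_mul]⟩

/-- An involution commuting with `(0 1 2)(5 6 7)`, with centralizer of order divisible by nine,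
is the transposition `t`. -/
theorem Emb8.eq_t_of_nine (E : Emb8 S) {m : S8} (hm : m * m = 1) (hm1 : m ≠ 1)
    (hmy : m * yy = yy * m) (h9 : 9 ∣ Nat.card (centralizer ({E.ι m} : Set G))) : m = t8 := by
  have hy : E.ι yy = S.ψ zF * S.ψ dF := by rw [← map_mul, ← E.comp]; rfl
  have hy3 : (S.ψ zF * S.ψ dF) ^ 3 = 1 := by
    rw [← map_mul, ← map_pow, show (zF * dF) ^ 3 = 1 by decide +kernel, map_one]
  obtain ⟨R, hyR, hR, hprop⟩ := exists_nine S.not_dvd (x := E.ι m) hy3
    (by rw [← hy, E.comm_iff]; exact hmy.symm) h9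
  have hle : R ≤ S.D := fun r hr => by
    obtain ⟨-, hry, hr9⟩ := hprop r hr
    have hsq : r ^ 2 ∈ S.D := S.sq_y r (mem_centralizer_singleton_iff.2 hry)
    have := pow_mem hsq 5
    rwa [← pow_mul, show 2 * 5 = 9 + 1 from rfl, pow_succ, hr9, one_mul] at this
  have hRD : R = S.D := eq_of_le_of_card_ge hle (by rw [hR, S.card_D])
  have hz := hprop (S.ψ zF) (by rw [hRD]; exact subset_closure (Set.mem_insert _ _))
  have hd := hprop (S.ψ dF) (by rw [hRD]; exact subset_closure (Set.mem_insert_of_mem _ rfl))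
  obtain ⟨k, hk⟩ := S.cent_z_le (mem_centralizer_singleton_iff.2 hz.1.symm)
  have hkm : j8 k = m := E.inj ((E.comp k).trans hk)
  have h := cent_D_invol k (S.comm_of_map (by rw [hk]; exact hz.1.symm))
    (S.comm_of_map (by rw [hk]; exact hd.1.symm))
    (S.inj (by rw [map_mul, hk, map_one, ← map_mul, hm, map_one]))
    (fun h => hm1 (by rw [← hkm, h, map_one]))
  rw [← hkm, h]
  exact j8_facts.1

theorem Emb8.nine_t (E : Emb8 S) : 9 ∣ Nat.card (centralizer ({E.ι t8} : Set G)) := by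
  rw [← j8_facts.1, E.comp]
  exact S.nine_dvd_cent_t

theorem Emb8.isConj_map (E : Emb8 S) {m n : S8} (hm : m * m = 1) (hn : n * n = 1)
    (h : m.support.card = n.support.card) : IsConj (E.ι m) (E.ι n) :=
  E.ι.map_isConj (isConj_of_card hm hn h)

theorem card_cent_isConj {x y : G} (h : IsConj x y) :
    Nat.card (centralizer ({x} : Set G)) = Nat.card (centralizer ({y} : Set G)) := by
  obtain ⟨w, rfl⟩ := isConj_iff.1 h
  exact (card_cent_conj w x).symm

theorem Emb8.not_nine_a (E : Emb8 S) : ¬ 9 ∣ Nat.card (centralizer ({E.ι a0} : Set G)) := by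
  rw [card_cent_isConj (E.isConj_map rep_facts.1.2.1 (n := av) (by decide +kernel)
    (by decide +kernel)), ← j8_facts.2.2.1, E.comp]
  exact S.not_nine_dvd_cent_a

theorem Emb8.not_isConj_t (E : Emb8 S) {m : S8} (hm : m ∈ [a0, w0, u0]) :
    ¬ IsConj (E.ι m) (E.ι t8) := by
  intro h
  have h9 : 9 ∣ Nat.card (centralizer ({E.ι m} : Set G)) := card_cent_isConj h ▸ E.nine_t
  simp only [List.mem_cons, List.not_mem_nil, or_false] at hm
  rcases hm with rfl | rfl | rfl
  · exact E.not_nine_a h9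
  · exact rep_facts.2.2.1 (E.eq_t_of_nine rep_facts.1.2.2.1 rep_facts.2.2.2.2.2.1 yy_u0.2.1 h9)
  · exact rep_facts.2.2.2.1 (E.eq_t_of_nine rep_facts.1.2.2.2 rep_facts.2.2.2.2.2.2 yy_u0.1 h9)

theorem Emb8.not_isConj_a (E : Emb8 S) {m : S8} (hm : m ∈ [w0, u0]) :
    ¬ IsConj (E.ι a0) (E.ι m) := by
  intro h
  haveI : Fact (Nat.Prime 3) := ⟨Nat.prime_three⟩
  have hfix : m * yy = yy * m := by
    simp only [List.mem_cons, List.not_mem_nil, or_false] at hm
    rcases hm with rfl | rfl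
    exacts [yy_u0.2.1, yy_u0.1]
  obtain ⟨w, hw⟩ := isConj_iff.1 h.symm
  have hy : E.ι yy = S.ψ zF * S.ψ dF := by rw [← map_mul, ← E.comp]; rfl
  set y' := w * E.ι yy * w⁻¹ with hy'
  have hya : y' * E.ι a0 = E.ι a0 * y' := by
    rw [hy', ← hw]
    calc w * E.ι yy * w⁻¹ * (w * E.ι m * w⁻¹) = w * (E.ι yy * E.ι m) * w⁻¹ := by group
      _ = w * (E.ι m * E.ι yy) * w⁻¹ := by rw [← map_mul, ← hfix, map_mul]
      _ = _ := by group
  set C := centralizer ({E.ι a0} : Set G) with hC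
  let z : C := ⟨S.ψ zF, mem_centralizer_singleton_iff.2 (by
    rw [← E.comp, E.comm_iff]; exact yy_u0.2.2.symm)⟩
  let Y : C := ⟨y', mem_centralizer_singleton_iff.2 hya⟩
  have hy3 : y' ^ 3 = 1 := by
    rw [hy', conj_pow, ← map_pow, show yy ^ 3 = 1 by decide +kernel, map_one, mul_one,
      mul_inv_cancel]
  have hzo : orderOf z = 3 := orderOf_eq_prime
    (Subtype.ext (show S.ψ zF ^ 3 = 1 by
      rw [← map_pow, show zF ^ 3 = 1 by decide +kernel, map_one]))
    (fun e => facts_comm.2.2.2.2.2.2.2.2.2.1 (S.inj ((congrArg Subtype.val e).trans (map_one _).symm)))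
  have hYo : orderOf Y = 3 := orderOf_eq_prime (Subtype.ext hy3) (fun e => by
    have e' : w * E.ι yy * w⁻¹ = 1 := congrArg Subtype.val e
    exact absurd (E.inj ((conj_eq_one_iff.1 e').trans (map_one _).symm)) (by decide +kernel))
  have hfac : (Nat.card C).factorization 3 = 1 := by
    refine le_antisymm ?_ ?_
    · by_contra hlt
      refine E.not_nine_a ?_
      rw [← hC]
      exact ((Nat.prime_three.pow_dvd_iff_le_factorization Nat.card_pos.ne').2
        (show 2 ≤ _ by omega))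
    · exact (Nat.prime_three.pow_dvd_iff_le_factorization Nat.card_pos.ne').1
        (by simpa [hzo] using orderOf_dvd_natCard z)
  let P1 : Sylow 3 C := Sylow.ofCard (zpowers z) (by rw [Nat.card_zpowers, hzo, hfac, pow_one])
  let P2 : Sylow 3 C := Sylow.ofCard (zpowers Y) (by rw [Nat.card_zpowers, hYo, hfac, pow_one])
  obtain ⟨c, hc⟩ := MulAction.exists_smul_eq C P1 P2
  have hmem : c * z * c⁻¹ ∈ (P2 : Subgroup C) := by
    rw [← hc, Sylow.coe_subgroup_smul]
    exact smul_mem_pointwise_smul z (MulAut.conj c) _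
      (by rw [Sylow.coe_ofCard]; exact mem_zpowers z)
  rw [Sylow.coe_ofCard] at hmem
  have hczo : orderOf (c * z * c⁻¹) = 3 := by
    rw [← hzo]
    exact MulEquiv.orderOf_eq (MulAut.conj c) z
  have heq : zpowers (c * z * c⁻¹) = zpowers Y := eq_of_le_of_card_ge (zpowers_le.2 hmem)
    (by rw [Nat.card_zpowers, Nat.card_zpowers, hczo, hYo])
  obtain ⟨j, hj⟩ := mem_zpowers_iff.1 (heq.symm ▸ mem_zpowers Y : Y ∈ zpowers (c * z * c⁻¹))
  have hj' : ((c : G) * S.ψ zF * (c : G)⁻¹) ^ j = y' := congrArg Subtype.val hj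
  set f := (c : G) * S.ψ fiveF * (c : G)⁻¹ with hf
  have hfz : Commute f ((c : G) * S.ψ zF * (c : G)⁻¹) :=
    (show Commute (S.ψ fiveF) (S.ψ zF) from S.map_comm fiveF_facts.2.2).map
      (MulAut.conj (c : G)).toMonoidHom
  have hfy : f ∈ centralizer ({y'} : Set G) :=
    mem_centralizer_singleton_iff.2 (hj' ▸ (hfz.zpow_right j).eq)
  have hcard : Nat.card (centralizer ({y'} : Set G)) = 36 := by
    rw [hy', card_cent_conj, hy]; exact S.card_y
  haveI : Fact (Nat.Prime 5) := ⟨by norm_num⟩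
  have hfo : orderOf f = 5 := by
    rw [hf, show (c : G) * S.ψ fiveF * (c : G)⁻¹ = MulAut.conj (c : G) (S.ψ fiveF) from rfl,
      MulEquiv.orderOf_eq, orderOf_injective S.ψ S.inj]
    exact orderOf_eq_prime fiveF_facts.1 fiveF_facts.2.1
  have h5 : orderOf f ∣ Nat.card (centralizer ({y'} : Set G)) := by
    have := orderOf_dvd_natCard (⟨f, hfy⟩ : centralizer ({y'} : Set G))
    rwa [orderOf_mk] at this
  rw [hfo, hcard] at h5
  norm_num at h5

end CfsgLib.SEightThree.SymIso
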