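import Cfsg.Agent.Lib.SEightThree.SymIso.Tables
import Cfsg.Agent.S2530

/-!
The symmetric group of degree eight inside the group.
-/

set_option autoImplicit false
set_option linter.style.haveILetI false
set_option maxRecDepth 100000

namespace CfsgLib.SEightThree.SymIso

open Equiv Subgroup

universe u

variable {G : Type u} [Group G]

/-- a seven-cycle fixing exactly the given letter -/
def seven (i : Fin 8) : S8 :=
  swap 0 i * (swap 1 2 * swap 2 3 * swap 3 4 * swap 4 5 * swap 5 6 * swap 6 7) * swap 0 i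

theorem seven_facts : ∀ i, Perm.sign (seven i) = 1 ∧ ∀ j, seven i j = j → j = i := by
  decide +kernel

theorem seven_apply : ∀ i, seven i i = i := by decide +kernel

/-- A copy of `Sym 8` extending the normalizer of the subgroup of order three. -/
structure Emb8 (S : Setup G) where
  ι : S8 →* G
  inj : Function.Injective ι
  comp : ∀ k : KF, ι (j8 k) = S.ψ k

theorem Emb8.range_ψ {S : Setup G} (E : Emb8 S) : S.ψ.range ≤ E.ι.range := by
  rintro _ ⟨k, rfl⟩
  exact ⟨j8 k, E.comp k⟩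

theorem exists_emb8 (S : Setup G) (hS : S.IsSym) (hc : Commute (S.φ (sF 0)) (S.ψ cF)) :
    Nonempty (Emb8 S) := by
  set x : Fin 7 → G := fun i => if i = 2 then S.φ (sF 0) else S.ψ (gK i) with hx
  have hK : ∀ i, i ≠ 2 → x i = S.ψ (gK i) := fun i h => by simp [hx, h]
  have hx2 : x 2 = S.φ (sF 0) := by simp [hx]
  have hφe : S.φ eF = S.ψ fF := hS.1
  have hφf : S.φ fF = S.ψ eF := hS.2
  have hF : ∀ i, i ≠ 4 → x i = S.φ (gF i) := by
    intro i hi
    fin_cases i
    · exact (hK 0 (by decide)).trans hφf.symm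
    · refine (hK 1 (by decide)).trans ?_
      show S.ψ (swap 1 2, 1) = S.φ hF
      rw [conj_facts.2.1, conj_facts.1, map_mul, map_mul, map_inv, map_mul, map_mul, map_inv,
        S.φ_dF, hφf]
    · exact hx2
    · exact (hK 3 (by decide)).trans S.φ_tF.symm
    · exact absurd rfl hi
    · exact (hK 5 (by decide)).trans hφe.symm
    · refine (hK 6 (by decide)).trans ?_
      show S.ψ hF = S.φ (swap 1 2, 1)
      rw [conj_facts.2.1, conj_facts.1, map_mul, map_mul, map_inv, map_mul, map_mul, map_inv,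
        S.φ_zF, hφe]
  have hrel : CoxeterMatrix.IsLiftable (CoxeterMatrix.A 7) x := by
    intro i j
    by_cases h2 : i ≠ 2 ∧ j ≠ 2
    · rw [hK i h2.1, hK j h2.2, ← map_mul, ← map_pow, gK_rels i j h2.1 h2.2, map_one]
    by_cases h4 : i ≠ 4 ∧ j ≠ 4
    · rw [hF i h4.1, hF j h4.2, ← map_mul, ← map_pow, gF_rels i j h4.1 h4.2, map_one]
    have ha : S.φ (sF 0) * S.φ (sF 0) = 1 := by
      rw [← map_mul, conj_facts.2.2.2.2.2.2.2.1, map_one]
    have hb : S.ψ cF * S.ψ cF = 1 := by rw [← map_mul, conj_facts.2.2.2.2.2.2.2.2, map_one]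
    have key : (i = 2 ∧ j = 4) ∨ (i = 4 ∧ j = 2) := by
      rcases eq_or_ne i 2 with rfl | hi
      · refine Or.inl ⟨rfl, ?_⟩
        by_contra hj
        exact h4 ⟨by decide, hj⟩
      · have hj : j = 2 := by
          by_contra hj
          exact h2 ⟨hi, hj⟩
        subst hj
        refine Or.inr ⟨?_, rfl⟩
        by_contra hi'
        exact h4 ⟨hi', by decide⟩
    have h24 : (CoxeterMatrix.A 7) 2 4 = 2 ∧ (CoxeterMatrix.A 7) 4 2 = 2 := by decide +kernel
    rcases key with ⟨rfl, rfl⟩ | ⟨rfl, rfl⟩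
    · rw [h24.1, hx2, hK 4 (by decide), show gK 4 = cF from rfl, hc.mul_pow, pow_two, pow_two, ha,
        hb, one_mul]
    · rw [h24.2, hx2, hK 4 (by decide), show gK 4 = cF from rfl, hc.symm.mul_pow, pow_two, pow_two,
        ha, hb, one_mul]
  obtain ⟨cs, hcs⟩ := Cfsg.Agent.S2530.result 7
  let ι : S8 →* G := cs.lift ⟨x, hrel⟩
  have hgen : ∀ i : Fin 7, ι (swap i.castSucc i.succ) = x i := fun i => by
    rw [← hcs i]
    exact cs.lift_apply_simple hrel i
  have hcomp : ι.comp j8 = S.ψ := by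
    refine MonoidHom.eq_of_eqOn_dense closure_gK ?_
    rintro _ ⟨i, hi, rfl⟩
    rw [MonoidHom.comp_apply, gK_j8 i hi, hgen, hK i hi]
  have hcomp' : ∀ k, ι (j8 k) = S.ψ k := fun k => DFunLike.congr_fun hcomp k
  refine ⟨⟨ι, ?_, hcomp'⟩⟩
  have hz : ι (j8 zF) ≠ 1 := by
    rw [hcomp']
    exact fun h => zd_facts.2.1 (S.inj (h.trans (map_one S.ψ).symm))
  haveI : IsSimpleGroup (alternatingGroup (Fin 8)) := alternatingGroup.isSimpleGroup (by simp)
  have hA : ι.ker ⊓ alternatingGroup (Fin 8) = ⊥ := by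
    rcases ((inferInstance : ((ι.ker).subgroupOf (alternatingGroup (Fin 8))).Normal)).eq_bot_or_eq_top
      with h | h
    · exact disjoint_iff.1 (subgroupOf_eq_bot.1 h)
    · exact absurd (MonoidHom.mem_ker.1 (subgroupOf_eq_top.1 h
        (Perm.mem_alternatingGroup.2 (by decide +kernel) : j8 zF ∈ alternatingGroup (Fin 8)))) hz
  rw [← MonoidHom.ker_eq_bot_iff, eq_bot_iff]
  intro m hm
  rw [mem_bot]
  have hcen : ∀ a ∈ alternatingGroup (Fin 8), a * m = m * a := by
    intro a ha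
    have h1 : a * m * a⁻¹ * m⁻¹ ∈ ι.ker ⊓ alternatingGroup (Fin 8) := by
      refine mem_inf.2 ⟨mul_mem ((inferInstance : ι.ker.Normal).conj_mem m hm a) (inv_mem hm), ?_⟩
      rw [show a * m * a⁻¹ * m⁻¹ = a * (m * a⁻¹ * m⁻¹) by group]
      exact mul_mem ha ((inferInstance : (alternatingGroup (Fin 8)).Normal).conj_mem _ (inv_mem ha) m)
    rw [hA, mem_bot, mul_inv_eq_one, mul_inv_eq_iff_eq_mul] at h1
    exact h1
  refine Equiv.ext fun i => ?_
  obtain ⟨hev, hfix⟩ := seven_facts i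
  refine hfix (m i) ?_
  have h := congrArg (fun p : S8 => p i) (hcen _ (Perm.mem_alternatingGroup.2 hev))
  simp only [Perm.mul_apply] at h
  rw [h, seven_apply]

end CfsgLib.SEightThree.SymIso
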