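import Cfsg.Agent.Lib.SEightThree.SymIso.Sylow
import Cfsg.Agent.Lib.AEightThree.Basic

/-!
The normal subgroup of index two has the structure recognizing the alternating group of degree
eight; reduction to that recognition.
-/

set_option autoImplicit false
set_option linter.style.haveILetI false
set_option linter.unusedSectionVars false
set_option maxRecDepth 100000

namespace CfsgLib.SEightThree.SymIso

open Equiv Subgroup

universe u

theorem y8_facts : ∃ b : S8, b * yy * b⁻¹ = (AEightThree.y8 : S8) :=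
  ⟨my, by decide +kernel⟩

theorem z8_eq : (AEightThree.z8 : S8) = j8 zF := by decide +kernel

variable {G : Type u} [Group G] [Finite G] {S : Setup G}

theorem Emb8.comap_eq (E : Emb8 S) {M : Subgroup G} (hn : M.Normal) (hi : M.index = 2)
    (ht : E.ι t8 ∉ M) : M.comap E.ι = alternatingGroup (Fin 8) := by
  refine Perm.eq_alternatingGroup_of_index_eq_two ?_
  have h2 : (M.comap E.ι).index ∣ 2 := by
    rw [index_comap]
    exact hi ▸ relIndex_dvd_index_of_normal M E.ι.range
  refine ((Nat.dvd_prime Nat.prime_two).1 h2).resolve_left fun h => ht ?_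
  rw [index_eq_one] at h
  exact (mem_comap.1 (h ▸ mem_top t8) : E.ι t8 ∈ M)

theorem Emb8.exists_emb (E : Emb8 S) {M : Subgroup G} (hn : M.Normal) (hi : M.index = 2)
    (ht : E.ι t8 ∉ M) : Nonempty (AEightThree.Emb M) := by
  have hA := E.comap_eq hn hi ht
  have hmem : ∀ a : alternatingGroup (Fin 8), E.ι a ∈ M := fun a =>
    (mem_comap.1 (show (a : S8) ∈ M.comap E.ι by rw [hA]; exact a.2) : E.ι a ∈ M)
  let ι' : alternatingGroup (Fin 8) →* M :=
    (E.ι.comp (alternatingGroup (Fin 8)).subtype).codRestrict M hmem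
  have key : ∀ (k : alternatingGroup (Fin 8)), E.Inside (k : S8) →
      centralizer ({ι' k} : Set M) ≤ ι'.range := by
    intro k hk x hx
    have hxc : (x : G) * E.ι k = E.ι k * x :=
      congrArg Subtype.val (mem_centralizer_singleton_iff.1 hx)
    obtain ⟨m, hm⟩ := hk x hxc
    have hmA : m ∈ alternatingGroup (Fin 8) := by
      rw [← hA, mem_comap, hm]
      exact x.2
    exact ⟨⟨m, hmA⟩, Subtype.ext hm⟩
  refine ⟨⟨ι', fun a b h => Subtype.ext (E.inj (congrArg Subtype.val h)), key _ ?_, key _ ?_, ?_⟩⟩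
  · rw [z8_eq]; exact E.inside_z
  · obtain ⟨b, hb⟩ := y8_facts
    rw [← hb]
    exact E.inside_conj E.inside_yy b
  · exact fun h => S.not_dvd (h.trans (card_subgroup_dvd_card M))

/-- Reduction to the recognition of the alternating group of degree eight. -/
theorem Emb8.iso_of_recognition (E : Emb8 S)
    (hrec : ∀ M : Subgroup G, AEightThree.Emb M → Nonempty (M ≃* alternatingGroup (Fin 8))) :
    Nonempty (G ≃* S8) := by
  obtain ⟨M, hn, hi, ht⟩ := E.exists_index_two
  obtain ⟨em⟩ := E.exists_emb hn hi ht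
  obtain ⟨f⟩ := hrec M em
  have hcard : Nat.card G = Nat.card S8 := by
    rw [← M.card_mul_index, hi, Nat.card_congr f.toEquiv, nat_card_alternatingGroup, Nat.card_perm]
    norm_num [Nat.factorial]
  exact ⟨(MulEquiv.ofBijective E.ι
    ((Nat.bijective_iff_injective_and_card _).2 ⟨E.inj, hcard.symm⟩)).symm⟩

/-- The setup with the other choice of the conjugating element. -/
theorem exists_setup_zero (S : Setup G) (hS : S.IsSym) (s : Fin 5) (hs : s = 0 ∨ s = 1)
    (hc : Commute (S.φ (sF s)) (S.ψ cF)) :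
    ∃ S' : Setup G, S'.IsSym ∧ Commute (S'.φ (sF 0)) (S'.ψ cF) := by
  rcases hs with rfl | rfl
  · exact ⟨S, hS, hc⟩
  obtain ⟨-, -, hst, ht2, hte, htf, -⟩ := conj_facts
  have mv : ∀ k : KF, S.g * S.ψ tF * S.ψ k * (S.g * S.ψ tF)⁻¹ =
      S.g * S.ψ (tF * k * tF⁻¹) * S.g⁻¹ := fun k => by
    rw [map_mul, map_mul, map_inv]; group
  have fix : ∀ k : KF, tF * k = k * tF → S.g * S.ψ tF * S.ψ k * (S.g * S.ψ tF)⁻¹ =
      S.g * S.ψ k * S.g⁻¹ := fun k hk => by
    rw [mv, hk, mul_inv_cancel_right]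
  let S' : Setup G :=
    { S with
      g := S.g * S.ψ tF
      g_z := (fix zF zd_facts.2.2.2.2.2.2.2.2.2.1).trans S.g_z
      g_d := (fix dF zd_facts.2.2.2.2.2.2.2.2.2.2.1).trans S.g_d
      g_t := (fix tF rfl).trans S.g_t
      cases_e := Or.inl ⟨(fix eF hte).trans hS.1, (fix fF htf).trans hS.2⟩ }
  refine ⟨S', ⟨(fix eF hte).trans hS.1, (fix fF htf).trans hS.2⟩, ?_⟩
  have e : S'.φ (sF 0) = S.φ (sF 1) := by
    rw [Setup.φ_apply, Setup.φ_apply]
    show S.g * S.ψ tF * S.ψ (sF 0) * (S.g * S.ψ tF)⁻¹ = _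
    rw [mv, hst]
  rw [e]
  exact hc

end CfsgLib.SEightThree.SymIso
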