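import Cfsg.Agent.Lib.SEightThree.SymIso.Classes
import Cfsg.Agent.Lib.Coprime.Action2

/-!
The centralizers of the elements of order three lie in the symmetric subgroup, hence so does
every subgroup of order prime to three normalized by the group of order nine.
-/

set_option autoImplicit false
set_option linter.style.haveILetI false
set_option linter.unusedSectionVars false
set_option linter.unusedSectionVars false
set_option maxRecDepth 100000

namespace CfsgLib.SEightThree.SymIso

open Equiv Subgroup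

universe u

/-- conjugating elements -/
def conjList : List S8 := [1, j8 eF, j8 fF, j8 eF * j8 fF, w0, w0 * j8 eF]

theorem D_conj : ∀ i j : Fin 3, zF ^ i.1 * dF ^ j.1 = 1 ∨
    ∃ b ∈ conjList, b * j8 zF * b⁻¹ = j8 (zF ^ i.1 * dF ^ j.1) ∨
      b * yy * b⁻¹ = j8 (zF ^ i.1 * dF ^ j.1) := by
  decide +kernel

variable {G : Type u} [Group G] [Finite G] {S : Setup G}

/-- the centralizer of the image lies in the image -/
def Emb8.Inside (E : Emb8 S) (m : S8) : Prop := ∀ x : G, x * E.ι m = E.ι m * x → x ∈ E.ι.range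

theorem Emb8.inside_conj (E : Emb8 S) {m : S8} (h : E.Inside m) (b : S8) :
    E.Inside (b * m * b⁻¹) := by
  intro x hx
  simp only [map_mul, map_inv] at hx
  have hk : (E.ι b)⁻¹ * x * E.ι b * E.ι m = E.ι m * ((E.ι b)⁻¹ * x * E.ι b) := by
    calc (E.ι b)⁻¹ * x * E.ι b * E.ι m
        = (E.ι b)⁻¹ * (x * (E.ι b * E.ι m * (E.ι b)⁻¹)) * E.ι b := by group
      _ = (E.ι b)⁻¹ * ((E.ι b * E.ι m * (E.ι b)⁻¹) * x) * E.ι b := by rw [hx]
      _ = _ := by group
  have e : x = E.ι b * ((E.ι b)⁻¹ * x * E.ι b) * (E.ι b)⁻¹ := by group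
  rw [e]
  exact mul_mem (mul_mem ⟨b, rfl⟩ (h _ hk)) (inv_mem ⟨b, rfl⟩)

theorem Emb8.inside_z (E : Emb8 S) : E.Inside (j8 zF) := fun x hx => by
  rw [E.comp] at hx
  exact E.range_ψ (S.cent_z_le (mem_centralizer_singleton_iff.2 hx))

theorem Emb8.inside_yy (E : Emb8 S) : E.Inside yy := fun _ hx => E.cent_yy hx

theorem Emb8.cent_D_le (E : Emb8 S) {a : G} (ha : a ∈ S.D) (h1 : a ≠ 1) :
    centralizer ({a} : Set G) ≤ E.ι.range := by
  obtain ⟨i, j, rfl⟩ := S.mem_D_iff.1 ha
  obtain ⟨b, -, hb⟩ := (D_conj i j).resolve_left fun e => h1 (by rw [e, map_one])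
  intro x hx
  rw [← E.comp, mem_centralizer_singleton_iff] at hx
  rcases hb with hb | hb <;> rw [← hb] at hx
  · exact E.inside_conj E.inside_z b x hx
  · exact E.inside_conj E.inside_yy b x hx

theorem D_isMulCommutative (S : Setup G) : IsMulCommutative S.D := by
  refine ⟨⟨fun ⟨a, ha⟩ ⟨b, hb⟩ => Subtype.ext ?_⟩⟩
  obtain ⟨i, j, rfl⟩ := S.mem_D_iff.1 ha
  obtain ⟨i', j', rfl⟩ := S.mem_D_iff.1 hb
  have hc : Commute zF dF := facts_comm.1
  show S.ψ _ * S.ψ _ = S.ψ _ * S.ψ _
  rw [← map_mul, ← map_mul]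
  refine congrArg S.ψ ?_
  exact (((Commute.refl zF).pow_pow _ _).mul_right (hc.pow_pow _ _)).mul_left
    (((hc.symm).pow_pow _ _).mul_right ((Commute.refl dF).pow_pow _ _))

theorem pow_three_of_mem_D (S : Setup G) {a : G} (ha : a ∈ S.D) : a ^ 3 = 1 := by
  obtain ⟨i, j, rfl⟩ := S.mem_D_iff.1 ha
  rw [← map_pow, Commute.mul_pow ((show Commute zF dF from facts_comm.1).pow_pow _ _), ← pow_mul,
    ← pow_mul, mul_comm i.1, mul_comm j.1, pow_mul, pow_mul, facts_comm.2.2.2.2.2.2.2.1,
    facts_comm.2.2.2.2.2.2.2.2.1, one_pow, one_pow, one_mul, map_one]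

/-- Subgroups of order prime to three normalized by the group of order nine. -/
theorem Emb8.le_range (E : Emb8 S) {K : Subgroup G} (hn : S.D ≤ normalizer (K : Set G))
    (h3 : ¬ 3 ∣ Nat.card K) : K ≤ E.ι.range := by
  haveI := D_isMulCommutative S
  refine CfsgLib.Coprime.le_of_centralizer_le_of_not_isCyclic (A := S.D) ?_ hn ?_
    fun a ha hne => le_trans inf_le_right (E.cent_D_le ha hne)
  · intro hcyc
    obtain ⟨⟨a, ha⟩, hord⟩ := IsCyclic.exists_ofOrder_eq_natCard (α := S.D)
    rw [S.card_D, orderOf_mk] at hord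
    have := orderOf_dvd_of_pow_eq_one (pow_three_of_mem_D S ha)
    rw [hord] at this
    exact absurd (Nat.le_of_dvd (by norm_num) this) (by norm_num)
  · rw [S.card_D, show (9 : ℕ) = 3 ^ 2 by norm_num]
    exact ((Nat.Prime.coprime_iff_not_dvd Nat.prime_three).2 h3).pow_left 2

theorem Emb8.isConj_card (E : Emb8 S) {m x : S8} (hm : m * m = 1) (hm1 : m ≠ 1)
    (hx : x = t8 ∨ x = a0) (h : IsConj (E.ι m) (E.ι x)) : m.support.card = x.support.card := by
  have hl := card_support_invol hm hm1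
  obtain ⟨⟨ht, ha, hw, hu⟩, ⟨ct, ca, cw, cu⟩, -⟩ := rep_facts
  simp only [List.mem_cons, List.not_mem_nil, or_false] at hl
  rcases hl with c | c | c | c <;> rcases hx with rfl | rfl
  · rw [c, ct]
  · exact absurd ((h.symm).trans (E.isConj_map hm ht (c.trans ct.symm))) (E.not_isConj_t (by simp))
  · exact absurd ((E.isConj_map ha hm (ca.trans c.symm)).trans h) (E.not_isConj_t (by simp))
  · rw [c, ca]
  · exact absurd ((E.isConj_map hw hm (cw.trans c.symm)).trans h) (E.not_isConj_t (by simp))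
  · exact absurd ((h.symm).trans (E.isConj_map hm hw (c.trans cw.symm))) (E.not_isConj_a (by simp))
  · exact absurd ((E.isConj_map hu hm (cu.trans c.symm)).trans h) (E.not_isConj_t (by simp))
  · exact absurd ((h.symm).trans (E.isConj_map hm hu (c.trans cu.symm))) (E.not_isConj_a (by simp))

end CfsgLib.SEightThree.SymIso
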