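import Cfsg.Agent.Lib.SEightThree.SymIso.CentV
import Cfsg.Agent.Lib.Transfer.ThompsonTransfer

/-!
The 2-part of the order is 128 and the transposition class leaves a normal subgroup of index two.
-/

set_option autoImplicit false
set_option linter.style.haveILetI false
set_option linter.unusedSectionVars false
set_option maxRecDepth 100000

namespace CfsgLib.SEightThree.SymIso

open Equiv Subgroup

universe u

variable {G : Type u} [Group G] [Finite G] {S : Setup G}

/-- Elements normalizing the image of the Sylow 2-subgroup of the symmetric group. -/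
theorem Emb8.normR_le (E : Emb8 S) {n : G}
    (hn : ∀ r, Pres r → ∃ r', Pres r' ∧ n * E.ι r * n⁻¹ = E.ι r') : n ∈ E.ι.range := by
  classical
  obtain ⟨hev, hbp, hbc, hb2, ha0, hbev, -, hevinj⟩ := ev_facts
  have conj_sq : ∀ {x : G} {m r : S8}, r * r = 1 → x * E.ι r * x⁻¹ = E.ι m → m * m = 1 := by
    intro x m r hr e
    refine E.inj ?_
    rw [map_mul, ← e, map_one, show x * E.ι r * x⁻¹ * (x * E.ι r * x⁻¹) =
      x * (E.ι r * E.ι r) * x⁻¹ by group, ← map_mul, hr, map_one, mul_one, mul_inv_cancel]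
  have conj_ne : ∀ {x : G} {m r : S8}, r ≠ 1 → x * E.ι r * x⁻¹ = E.ι m → m ≠ 1 := by
    intro x m r hr e h
    rw [h, map_one, conj_eq_one_iff] at e
    exact hr (E.inj (e.trans (map_one _).symm))
  -- the permutation of the four transpositions
  have hperm : ∀ l, ∃ l', n * E.ι (ev l) * n⁻¹ = E.ι (ev l') := by
    intro l
    obtain ⟨r', hr', e⟩ := hn _ (hev l).1
    have hne : ev l ≠ 1 := fun h => by
      have := (hev l).2.1
      rw [h] at this
      simp at this
    have hc : r'.support.card = 2 := by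
      refine (E.isConj_card (conj_sq (hev l).2.2 e) (conj_ne hne e) (Or.inl rfl) ?_).trans
        rep_facts.2.1.1
      refine (IsConj.symm (isConj_iff.2 ⟨n, e⟩)).trans ?_
      exact E.isConj_map (hev l).2.2 rep_facts.1.1 ((hev l).2.1.trans rep_facts.2.1.1.symm)
    obtain ⟨l', rfl⟩ := invol_R hr' hc
    exact ⟨l', e⟩
  choose σ hσ using hperm
  have hσinj : Function.Injective σ := fun l l' h => by
    have := (hσ l).trans ((congrArg (fun x => E.ι (ev x)) h).trans (hσ l').symm)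
    exact hevinj (E.inj (conj_injective (x := n) this))
  let σ' : Perm (Fin 4) := Equiv.ofBijective σ (Finite.injective_iff_bijective.1 hσinj)
  set k := lift4 σ' with hk
  have hkev : ∀ l, E.ι k * E.ι (ev l) * (E.ι k)⁻¹ = E.ι (ev (σ l)) := fun l => by
    rw [← map_inv, ← map_mul, ← map_mul, hk, lift4_ev]
    rfl
  set n' := (E.ι k)⁻¹ * n with hn'
  have hn'ev : ∀ l, n' * E.ι (ev l) * n'⁻¹ = E.ι (ev l) := fun l => by
    calc n' * E.ι (ev l) * n'⁻¹ = (E.ι k)⁻¹ * (n * E.ι (ev l) * n⁻¹) * E.ι k := by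
          rw [hn']; group
      _ = (E.ι k)⁻¹ * (E.ι k * E.ι (ev l) * (E.ι k)⁻¹) * E.ι k := by rw [hσ, hkev]
      _ = _ := by group
  obtain ⟨r', -, hr'⟩ := hn bv hbp
  set m := k⁻¹ * r' * k with hm
  have hmb : n' * E.ι bv * n'⁻¹ = E.ι m := by
    rw [hm, map_mul, map_mul, map_inv, ← hr', hn']
    group
  have hmm : m * m = 1 := conj_sq hb2 hmb
  have hbv1 : bv ≠ 1 := fun h => by rw [h] at hbc; simp at hbc
  have hmev : ∀ l, m * ev l * m⁻¹ = ev (swap 2 3 l) := fun l => by
    refine E.inj ?_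
    rw [map_mul, map_mul, map_inv, ← hmb]
    calc n' * E.ι bv * n'⁻¹ * E.ι (ev l) * (n' * E.ι bv * n'⁻¹)⁻¹
        = n' * (E.ι bv * (n'⁻¹ * E.ι (ev l) * n') * (E.ι bv)⁻¹) * n'⁻¹ := by group
      _ = n' * (E.ι bv * E.ι (ev l) * (E.ι bv)⁻¹) * n'⁻¹ := by
          congr 3
          conv_lhs => rw [← hn'ev l]
          group
      _ = n' * E.ι (ev (swap 2 3 l)) * n'⁻¹ := by rw [← map_inv, ← map_mul, ← map_mul, hbev]
      _ = _ := hn'ev _
  have hbi : bv⁻¹ = bv := inv_eq_of_mul_eq_one_right hb2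
  have hcent : ∀ l, m * bv * ev l * (m * bv)⁻¹ = ev l := fun l => by
    have e : m * bv * ev l * (m * bv)⁻¹ = m * (bv * ev l * bv⁻¹) * m⁻¹ := by group
    rw [e, hbev, hmev, Equiv.swap_apply_self]
  obtain ⟨x, hx⟩ := cent_E hcent
  have hmx : m = Ev x * bv := by rw [← hx, mul_assoc, hb2, mul_one]
  have hmc : m.support.card = 4 := by
    refine (E.isConj_card hmm (conj_ne hbv1 hmb) (Or.inr rfl) ?_).trans rep_facts.2.1.2.1
    refine (IsConj.symm (isConj_iff.2 ⟨n', hmb⟩)).trans ?_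
    exact E.isConj_map hb2 rep_facts.1.2.1 (hbc.trans rep_facts.2.1.2.1.symm)
  have hmv : m = bv ∨ m = av := by
    rw [hmx] at hmm hmc ⊢
    exact Ev_bv x hmm hmc
  have hn'a : n' * E.ι a0 * n'⁻¹ = E.ι a0 := by
    rw [← ha0, map_mul]
    calc n' * (E.ι (ev 2) * E.ι (ev 3)) * n'⁻¹
        = (n' * E.ι (ev 2) * n'⁻¹) * (n' * E.ι (ev 3) * n'⁻¹) := by group
      _ = _ := by rw [hn'ev, hn'ev]
  -- reduce to the centralizer of the four-group
  have hfix : ∀ x : G, x * E.ι a0 * x⁻¹ = E.ι a0 → x * E.ι bv * x⁻¹ = E.ι bv → x ∈ E.ι.range := by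
    intro x h1 h2
    refine E.centV_le (E.mem_centV.2 ⟨?_, mul_inv_eq_iff_eq_mul.1 h2⟩)
    rw [← swap45_facts.2.2, map_mul]
    exact (show Commute x (E.ι a0) from mul_inv_eq_iff_eq_mul.1 h1).mul_right
      (mul_inv_eq_iff_eq_mul.1 h2)
  have hn'range : n' ∈ E.ι.range := by
    rcases hmv with h | h
    · exact hfix n' hn'a (h ▸ hmb)
    · have h' : E.ι (swap 4 5) * n' ∈ E.ι.range := by
        refine hfix _ ?_ ?_
        · calc E.ι (swap 4 5) * n' * E.ι a0 * (E.ι (swap 4 5) * n')⁻¹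
              = E.ι (swap 4 5) * (n' * E.ι a0 * n'⁻¹) * (E.ι (swap 4 5))⁻¹ := by group
            _ = E.ι a0 := by rw [hn'a, ← map_inv, ← map_mul, ← map_mul, swap45_facts.1]
        · calc E.ι (swap 4 5) * n' * E.ι bv * (E.ι (swap 4 5) * n')⁻¹
              = E.ι (swap 4 5) * (n' * E.ι bv * n'⁻¹) * (E.ι (swap 4 5))⁻¹ := by group
            _ = E.ι bv := by rw [hmb, h, ← map_inv, ← map_mul, ← map_mul, swap45_facts.2.1]
      simpa using mul_mem (inv_mem (⟨_, rfl⟩ : E.ι (swap 4 5) ∈ E.ι.range)) h'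
  have e : n = E.ι k * n' := by rw [hn']; group
  rw [e]
  exact mul_mem ⟨k, rfl⟩ hn'range

/-- The image of `R8` is a Sylow 2-subgroup. -/
theorem Emb8.exists_sylow (E : Emb8 S) : ∃ P : Sylow 2 G, (P : Subgroup G) = R8.map E.ι := by
  haveI : Fact (Nat.Prime 2) := ⟨Nat.prime_two⟩
  set R : Subgroup G := R8.map E.ι with hR
  have hcR : Nat.card R = 128 := by rw [hR, card_map_of_injective E.inj, card_R8]
  obtain ⟨P, hP⟩ := (IsPGroup.of_card (p := 2) (n := 7) (G := R) (by rw [hcR]; norm_num))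
    |>.exists_le_sylow
  refine ⟨P, le_antisymm ?_ hP⟩
  by_contra hne
  set R' : Subgroup P := R.subgroupOf P with hR'
  have hlt : R' < ⊤ := lt_top_iff_ne_top.2 fun e => hne (subgroupOf_eq_top.1 e)
  haveI : Group.IsNilpotent (P : Subgroup G) := P.2.isNilpotent
  have hnc : R' < normalizer (R' : Set P) := Group.normalizerCondition_of_isNilpotent R' hlt
  set N : Subgroup P := normalizer (R' : Set P) with hN
  have hle : N.map (P : Subgroup G).subtype ≤ E.ι.range := by
    rintro _ ⟨x, hx, rfl⟩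
    refine E.normR_le fun r hr => ?_
    have hrR : E.ι r ∈ R := mem_map_of_mem E.ι (show r ∈ R8 from hr)
    have := (mem_normalizer_iff.1 hx ⟨E.ι r, hP hrR⟩).1 (mem_subgroupOf.2 hrR)
    obtain ⟨r', hr', e⟩ := mem_map.1 (mem_subgroupOf.1 this)
    exact ⟨r', hr', e.symm⟩
  have hd := card_dvd_of_le hle
  rw [card_map_of_injective (subtype_injective _),
    ← Nat.card_congr (MonoidHom.ofInjective E.inj).toEquiv, Nat.card_perm, Nat.card_fin] at hd
  obtain ⟨j, hj⟩ := IsPGroup.iff_card.1 (P.2.to_subgroup N)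
  rw [hj] at hd
  have hj7 : j ≤ 7 := by
    by_contra hlt'
    have := (pow_dvd_pow 2 (show 8 ≤ j by omega)).trans hd
    norm_num [Nat.factorial] at this
  have hcR' : Nat.card R' = 128 := by
    rw [Nat.card_congr (subgroupOfEquivOfLe hP).toEquiv, hcR]
  have : Nat.card N ≤ 128 := by
    rw [hj]; exact (Nat.pow_le_pow_right (by norm_num) hj7).trans (by norm_num)
  exact hnc.ne (eq_of_le_of_card_ge hnc.le (by omega))

/-- A normal subgroup of index two missing the transpositions. -/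
theorem Emb8.exists_index_two (E : Emb8 S) :
    ∃ M : Subgroup G, M.Normal ∧ M.index = 2 ∧ E.ι t8 ∉ M := by
  haveI : Fact (Nat.Prime 2) := ⟨Nat.prime_two⟩
  obtain ⟨P, hP⟩ := E.exists_sylow
  refine CfsgLib.Transfer.exists_index_two_of_not_conj_mem P
    (Q := (R8 ⊓ alternatingGroup (Fin 8)).map E.ι) (hP ▸ map_mono inf_le_left) ?_ ?_ ?_
  · rw [hP, relIndex_map_map_of_injective _ _ E.inj, inf_comm, inf_relIndex_right]
    have hd : (alternatingGroup (Fin 8)).relIndex R8 ∣ 2 := by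
      have h := relIndex_dvd_index_of_normal (alternatingGroup (Fin 8)) R8
      rwa [alternatingGroup.index_eq_two] at h
    refine ((Nat.dvd_prime Nat.prime_two).1 hd).resolve_left fun h => ?_
    have : ev 0 ∈ alternatingGroup (Fin 8) := relIndex_eq_one.1 h (mem_R8.2 (ev_facts.1 0).1)
    rw [Perm.mem_alternatingGroup] at this
    exact absurd this (by decide +kernel)
  · refine orderOf_eq_prime ?_ fun h => ?_
    · rw [pow_two, ← map_mul, rep_facts.1.1, map_one]
    · exact absurd (E.inj (h.trans (map_one _).symm)) (by decide +kernel)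
  · rintro g ⟨r, ⟨-, hr⟩, e⟩
    have hsign : Perm.sign r = 1 := Perm.mem_alternatingGroup.1 hr
    have hrr : r * r = 1 := E.inj (by
      rw [map_mul, e, map_one, show g * E.ι t8 * g⁻¹ * (g * E.ι t8 * g⁻¹) =
        g * (E.ι t8 * E.ι t8) * g⁻¹ by group, ← map_mul, rep_facts.1.1, map_one, mul_one,
        mul_inv_cancel])
    have hr1 : r ≠ 1 := fun h => by
      rw [h, map_one] at e
      exact absurd (E.inj ((conj_eq_one_iff.1 e.symm).trans (map_one _).symm)) (by decide +kernel)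
    have hc := E.isConj_card hrr hr1 (Or.inl rfl) (IsConj.symm (isConj_iff.2 ⟨g, e.symm⟩))
    rw [rep_facts.2.1.1, Perm.card_support_eq_two] at hc
    rw [hc.sign_eq] at hsign
    exact absurd hsign (by decide)

end CfsgLib.SEightThree.SymIso
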