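import Cfsg.Agent.Lib.SEightThree.Basic

/-!
Finite facts about `Sym 8` and `Sym 3 × Sym 5` for the recognition of the symmetric group.
-/

set_option autoImplicit false
set_option maxRecDepth 100000
set_option maxHeartbeats 2000000
set_option synthInstance.maxSize 2000
set_option synthInstance.maxHeartbeats 200000
set_option linter.style.haveILetI false

namespace CfsgLib.SEightThree.SymIso

open Equiv

/-- the symmetric group of degree eight -/
abbrev S8 := Perm (Fin 8)

/-- `Sym 3 × Sym 5` inside degree eight -/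
def j8 : KF →* S8 :=
  (finSumFinEquiv : Fin 3 ⊕ Fin 5 ≃ Fin 8).permCongrHom.toMonoidHom.comp
    (Perm.sumCongrHom (Fin 3) (Fin 5))

/-- the transposition `(3 4)` -/
def t8 : S8 := swap 3 4

/-- `(4 5)(6 7)` -/
def a0 : S8 := swap 4 5 * swap 6 7

/-- `(4 7)(5 6)` -/
def av : S8 := swap 4 7 * swap 5 6

/-- `(4 6)(5 7)` -/
def bv : S8 := swap 4 6 * swap 5 7

/-- `(0 5)(1 6)(2 7)` -/
def w0 : S8 := swap 0 5 * swap 1 6 * swap 2 7

/-- `(0 5)(1 6)(2 7)(3 4)` -/
def u0 : S8 := w0 * t8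

/-- `(4 5)(6 7)` in `Sym 3 × Sym 5` -/
def a0K : KF := (1, swap 1 2 * swap 3 4)

/-- an element of order five centralizing `zF` -/
def fiveF : KF := (1, swap 0 1 * swap 1 2 * swap 2 3 * swap 3 4)

theorem j8_facts : j8 tF = t8 ∧ j8 a0K = a0 ∧ j8 aF = av ∧ j8 bF = bv ∧ j8 cF = swap 4 5 := by
  decide +kernel

/-! ### the group of order nine -/

/-- the elements of order dividing three generated by `zF` and `dF` -/
def DK : Subgroup KF :=
  (alternatingGroup (Fin 3)).prod (Subgroup.zpowers (swap (2 : Fin 5) 3 * swap 3 4))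

theorem z_mem_DK : zF ∈ DK :=
  Subgroup.mem_prod.2 ⟨Perm.mem_alternatingGroup.2 (by decide), one_mem _⟩

theorem d_mem_DK : dF ∈ DK := Subgroup.mem_prod.2 ⟨one_mem _, Subgroup.mem_zpowers _⟩

theorem card_DK : Nat.card DK = 9 := by
  have h : orderOf (swap (2 : Fin 5) 3 * swap 3 4) = 3 :=
    haveI : Fact (Nat.Prime 3) := ⟨Nat.prime_three⟩
    orderOf_eq_prime (by decide +kernel) (by decide +kernel)
  rw [DK, Nat.card_congr (Subgroup.prodEquiv _ _).toEquiv, Nat.card_prod, Nat.card_zpowers, h,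
    nat_card_alternatingGroup, Nat.card_fin]
  rfl

theorem zd_facts : zF * zF * zF = 1 ∧ zF ≠ 1 ∧ zF * dF = dF * zF ∧ zF * aF = aF * zF ∧
    zF * bF = bF * zF ∧ dF * aF * dF⁻¹ = aF * bF ∧ dF * bF * dF⁻¹ = aF ∧
    dF⁻¹ * aF * dF = bF ∧ dF⁻¹ * bF * dF = aF * bF ∧ tF * zF = zF * tF ∧ tF * dF = dF * tF ∧
    eF * aF = aF * eF ∧ eF * bF = bF * eF ∧ eF * zF * eF⁻¹ = zF⁻¹ ∧ tF ≠ 1 ∧ tF * tF = 1 := by
  decide +kernel

theorem fiveF_facts : fiveF ^ 5 = 1 ∧ fiveF ≠ 1 ∧ fiveF * zF = zF * fiveF := by decide +kernel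

theorem cent_zV : ∀ k : KF, k * zF = zF * k → k * aF = aF * k → k * bF = bF * k →
    ∃ i : Fin 3, ∃ v ∈ [1, aF, bF, aF * bF], k = zF ^ i.1 * v := by
  decide +kernel

theorem cent_za_nine : ∀ k : KF, k * zF = zF * k → k * a0K = a0K * k → k ^ 9 = 1 →
    k = 1 ∨ k = zF ∨ k = zF⁻¹ := by
  decide +kernel

theorem cent_D_invol : ∀ k : KF, k * zF = zF * k → k * dF = dF * k → k * k = 1 → k ≠ 1 →
    k = tF := by
  decide +kernel

/-! ### the centralizer of `(0 1 2)(5 6 7)` -/

/-- `(0 1 2)(5 6 7)` -/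
def yy : S8 := j8 (zF * dF)

/-- thirty-six elements commuting with `yy` -/
def cy (p : Fin 3 × Fin 3 × Fin 2 × Fin 2) : S8 :=
  j8 zF ^ p.1.1 * j8 dF ^ p.2.1.1 * t8 ^ p.2.2.1.1 * u0 ^ p.2.2.2.1

theorem cy_comm : ∀ p, cy p * yy = yy * cy p := by decide +kernel

theorem cy_inj : Function.Injective cy := by decide +kernel

/-- a permutation moving the support of `(5 6 7)` to `{3, 4, 5}` -/
def my : S8 := swap 3 6 * swap 6 4 * swap 4 7 * swap 7 5

theorem yy_u0 : u0 * yy = yy * u0 ∧ w0 * yy = yy * w0 ∧ a0 * j8 zF = j8 zF * a0 := by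
  decide +kernel

/-! ### involutions -/

theorem cycleType_invol {m : S8} (h : m * m = 1) :
    m.cycleType = Multiset.replicate (m.support.card / 2) 2 := by
  by_cases h1 : m = 1
  · subst h1; simp
  · haveI : Fact (Nat.Prime 2) := ⟨Nat.prime_two⟩
    have ho : orderOf m = 2 := orderOf_eq_prime (by rw [pow_two]; exact h) h1
    obtain ⟨n, hn⟩ := Perm.cycleType_prime_order (σ := m) (ho ▸ Nat.prime_two)
    rw [ho] at hn
    have hs := Perm.sum_cycleType m
    rw [hn, Multiset.sum_replicate, smul_eq_mul] at hs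
    rw [hn]
    congr 1
    omega

theorem isConj_of_card {m n : S8} (hm : m * m = 1) (hn : n * n = 1)
    (h : m.support.card = n.support.card) : IsConj m n :=
  Perm.isConj_iff_cycleType_eq.2 (by rw [cycleType_invol hm, cycleType_invol hn, h])

theorem card_support_invol {m : S8} (h : m * m = 1) (h1 : m ≠ 1) :
    m.support.card ∈ [2, 4, 6, 8] := by
  have hs := Perm.sum_cycleType m
  have hle := Perm.sum_cycleType_le m
  rw [cycleType_invol h, Multiset.sum_replicate, smul_eq_mul] at hs hle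
  have hpos : m.support.card ≠ 0 := fun e =>
    h1 (Perm.support_eq_empty_iff.1 (Finset.card_eq_zero.1 e))
  simp only [Fintype.card_fin] at hle
  simp only [List.mem_cons, List.not_mem_nil, or_false]
  omega

theorem rep_facts : (t8 * t8 = 1 ∧ a0 * a0 = 1 ∧ w0 * w0 = 1 ∧ u0 * u0 = 1) ∧
    (t8.support.card = 2 ∧ a0.support.card = 4 ∧ w0.support.card = 6 ∧ u0.support.card = 8) ∧
    (w0 ≠ t8 ∧ u0 ≠ t8 ∧ a0 ≠ 1 ∧ w0 ≠ 1 ∧ u0 ≠ 1) := by
  decide +kernel

/-! ### a Sylow 2-subgroup -/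

/-- the partner of a letter -/
def mate : Fin 8 → Fin 8 := ![1, 0, 3, 2, 5, 4, 7, 6]

/-- the halves of the letters -/
def half : Fin 8 → Bool := ![false, false, false, false, true, true, true, true]

/-- preserving the pairs and the halves -/
def Pres (k : S8) : Prop :=
  (∀ i, k (mate i) = mate (k i)) ∧ ∀ i j, half (k i) = half (k j) ↔ half i = half j

instance (k : S8) : Decidable (Pres k) := by unfold Pres; infer_instance

/-- the Sylow 2-subgroup of order 128 -/
def R8 : Subgroup S8 where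
  carrier := {k | Pres k}
  mul_mem' {a b} ha hb := ⟨fun i => by
      simp only [Perm.mul_apply, hb.1, ha.1], fun i j => by
      simp only [Perm.mul_apply]; exact (ha.2 _ _).trans (hb.2 _ _)⟩
  one_mem' := ⟨fun _ => rfl, fun _ _ => Iff.rfl⟩
  inv_mem' {a} ha := ⟨fun i => by
      apply a.injective
      rw [ha.1, Perm.coe_inv, Equiv.apply_symm_apply, Equiv.apply_symm_apply], fun i j => by
      have := ha.2 (a⁻¹ i) (a⁻¹ j)
      simp only [Perm.coe_inv, Equiv.apply_symm_apply] at this ⊢; exact this.symm⟩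

theorem mem_R8 {k : S8} : k ∈ R8 ↔ Pres k := Iff.rfl

/-- the bits of the elements of `R8` -/
abbrev Bits := Bool × Bool × Bool × Bool × Bool × Bool × Bool

/-- the element given by seven bits -/
def rv : Bits → S8 := fun ⟨x0, x1, x2, x3, p, q, s⟩ =>
  (if x0 then swap 0 1 else 1) * (if x1 then swap 2 3 else 1) * (if x2 then swap 4 5 else 1) *
    (if x3 then swap 6 7 else 1) * (if p then swap 0 2 * swap 1 3 else 1) *
    (if q then swap 4 6 * swap 5 7 else 1) *
    (if s then swap 0 4 * swap 1 5 * swap 2 6 * swap 3 7 else 1)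

/-- the bits of a function -/
def dec (f : Fin 8 → Fin 8) : Bits :=
  let s := half (f 0)
  let odd : Fin 8 → Bool := fun l => decide (f 0 = l ∨ f 2 = l ∨ f 4 = l ∨ f 6 = l)
  let u := if s then f 4 else f 0
  let v := if s then f 0 else f 4
  (odd 1, odd 3, odd 5, odd 7, decide (u = 2 ∨ u = 3), decide (v = 6 ∨ v = 7), s)

theorem dec_rv : ∀ x, dec (rv x) = x ∧ Pres (rv x) := by decide +kernel

theorem cand_R : ∀ a b c d : Fin 8,
    half a = half b → half c = half d → half a ≠ half c →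
    b ≠ a → b ≠ mate a → d ≠ c → d ≠ mate c →
    let f : Fin 8 → Fin 8 := ![a, mate a, b, mate b, c, mate c, d, mate d]
    ∀ i, rv (dec f) i = f i := by
  decide +kernel

theorem Pres.eq_rv {k : S8} (h : Pres k) : rv (dec k) = k := by
  have hh : ∀ i j : Fin 8, half i = half j → half (k i) = half (k j) := fun i j => (h.2 i j).2
  have hf : (![k 0, mate (k 0), k 2, mate (k 2), k 4, mate (k 4), k 6, mate (k 6)] :
      Fin 8 → Fin 8) = k := funext fun i => by
    fin_cases i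
    · rfl
    · exact (h.1 0).symm
    · rfl
    · exact (h.1 2).symm
    · rfl
    · exact (h.1 4).symm
    · rfl
    · exact (h.1 6).symm
  have := cand_R (k 0) (k 2) (k 4) (k 6) (hh 0 2 (by decide)) (hh 4 6 (by decide))
    (fun e => absurd ((h.2 0 4).1 e) (by decide))
    (fun e => absurd (k.injective e) (by decide))
    (fun e => absurd (k.injective ((h.1 0).trans e.symm)) (by decide))
    (fun e => absurd (k.injective e) (by decide))
    (fun e => absurd (k.injective ((h.1 4).trans e.symm)) (by decide))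
  simp only [hf] at this
  exact Equiv.ext this

theorem card_R8 : Nat.card R8 = 128 := by
  let e : Bits ≃ R8 :=
    { toFun := fun x => ⟨rv x, (dec_rv x).2⟩
      invFun := fun k => dec k.1
      left_inv := fun x => (dec_rv x).1
      right_inv := fun k => Subtype.ext (Pres.eq_rv k.2) }
  rw [← Nat.card_congr e, Nat.card_eq_fintype_card]
  rfl

/-- the four transpositions -/
def ev : Fin 4 → S8 := ![swap 0 1, swap 2 3, swap 4 5, swap 6 7]

theorem ev_facts : (∀ l, Pres (ev l) ∧ (ev l).support.card = 2 ∧ ev l * ev l = 1) ∧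
    Pres bv ∧ bv.support.card = 4 ∧ bv * bv = 1 ∧ ev 2 * ev 3 = a0 ∧
    (∀ l, bv * ev l * bv⁻¹ = ev (swap 2 3 l)) ∧ (swap 3 4 : S8).support.card = 2 ∧
    Function.Injective ev := by
  decide +kernel

theorem swap_in_R : ∀ i j : Fin 8, i ≠ j → Pres (swap i j) → ∃ l, swap i j = ev l := by
  decide +kernel

theorem invol_R {m : S8} (hm : Pres m) (hc : m.support.card = 2) : ∃ l, m = ev l := by
  obtain ⟨i, j, hij, rfl⟩ := Perm.card_support_eq_two.1 hc
  exact swap_in_R i j hij hm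

/-- a permutation of the four pairs -/
def lift4 (σ : Perm (Fin 4)) : S8 :=
  ((finProdFinEquiv : Fin 4 × Fin 2 ≃ Fin 8)).permCongr (Equiv.prodCongr σ (Equiv.refl (Fin 2)))

theorem lift4_ev : ∀ σ : Perm (Fin 4), ∀ l, lift4 σ * ev l * (lift4 σ)⁻¹ = ev (σ l) := by
  decide +kernel

/-- products of the four transpositions -/
def Ev : Bool × Bool × Bool × Bool → S8 := fun ⟨x0, x1, x2, x3⟩ =>
  (if x0 then ev 0 else 1) * (if x1 then ev 1 else 1) * (if x2 then ev 2 else 1) *
    (if x3 then ev 3 else 1)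

theorem cand_E : ∀ a : Fin 8, a.1 < 2 → ∀ b : Fin 8, b = 2 ∨ b = 3 → ∀ c : Fin 8, c = 4 ∨ c = 5 →
    ∀ d : Fin 8, d = 6 ∨ d = 7 →
    let f : Fin 8 → Fin 8 := ![a, mate a, b, mate b, c, mate c, d, mate d]
    ∃ x, ∀ i, Ev x i = f i := by
  decide +kernel

theorem pair_of_comm {k : S8} {i j : Fin 8} (hij : i ≠ j) (h : k * swap i j * k⁻¹ = swap i j) :
    (k i = i ∧ k j = j) ∨ (k i = j ∧ k j = i) := by
  have e : swap (k i) (k j) = swap i j := by rw [swap_apply_apply]; exact h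
  have h1 : swap (k i) (k j) i = j := by rw [e, swap_apply_left]
  rw [swap_apply_def] at h1
  split_ifs at h1 with h2 h3
  · exact Or.inl ⟨h2.symm, h1⟩
  · exact Or.inr ⟨h1, h3.symm⟩
  · exact absurd h1 hij

theorem cent_E {k : S8} (h : ∀ l, k * ev l * k⁻¹ = ev l) : ∃ x, k = Ev x := by
  rcases pair_of_comm (by decide) (h 0 : k * swap 0 1 * k⁻¹ = swap 0 1) with ⟨p0, p1⟩ | ⟨p0, p1⟩ <;>
  rcases pair_of_comm (by decide) (h 1 : k * swap 2 3 * k⁻¹ = swap 2 3) with ⟨p2, p3⟩ | ⟨p2, p3⟩ <;>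
  rcases pair_of_comm (by decide) (h 2 : k * swap 4 5 * k⁻¹ = swap 4 5) with ⟨p4, p5⟩ | ⟨p4, p5⟩ <;>
  rcases pair_of_comm (by decide) (h 3 : k * swap 6 7 * k⁻¹ = swap 6 7) with ⟨p6, p7⟩ | ⟨p6, p7⟩ <;>
  · obtain ⟨x, hx⟩ := cand_E (k 0) (by rw [p0]; decide) (k 2) (by rw [p2]; decide)
      (k 4) (by rw [p4]; decide) (k 6) (by rw [p6]; decide)
    refine ⟨x, Equiv.ext fun i => ?_⟩
    rw [hx i]
    fin_cases i <;> simp [p0, p1, p2, p3, p4, p5, p6, p7, mate]

theorem Ev_bv : ∀ x, Ev x * bv * (Ev x * bv) = 1 → (Ev x * bv).support.card = 4 →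
    Ev x * bv = bv ∨ Ev x * bv = av := by
  decide +kernel

theorem swap45_facts : swap (4 : Fin 8) 5 * a0 * (swap 4 5)⁻¹ = a0 ∧
    swap (4 : Fin 8) 5 * av * (swap 4 5)⁻¹ = bv ∧ a0 * bv = av := by
  decide +kernel

/-! ### the centralizer of the four-group -/

theorem cand_V : ∀ a : Fin 8, a.1 < 4 → ∀ b : Fin 8, b.1 < 4 → b ≠ a →
    ∀ c : Fin 8, c.1 < 4 → c ≠ a → c ≠ b → ∀ d : Fin 8, d.1 < 4 → d ≠ a → d ≠ b → d ≠ c →
    ∀ e : Fin 8, 4 ≤ e.1 →
    let f : Fin 8 → Fin 8 := ![a, b, c, d, e, av (bv e), bv e, av e]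
    ∀ i, f^[12] i = i := by
  decide +kernel

theorem fixed_av : ∀ i : Fin 8, av i = i ↔ i.1 < 4 := by decide +kernel

theorem cent_V_pow {k : S8} (ha : k * av = av * k) (hb : k * bv = bv * k) : k ^ 12 = 1 := by
  have ha' : ∀ i, k (av i) = av (k i) := fun i => congrArg (fun p : S8 => p i) ha
  have hb' : ∀ i, k (bv i) = bv (k i) := fun i => congrArg (fun p : S8 => p i) hb
  have hlt : ∀ i : Fin 8, i.1 < 4 → (k i).1 < 4 := fun i hi =>
    (fixed_av _).1 (by rw [← ha', (fixed_av i).2 hi])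
  have hf : (![k 0, k 1, k 2, k 3, k 4, av (bv (k 4)), bv (k 4), av (k 4)] : Fin 8 → Fin 8) = k :=
    funext fun i => by
      fin_cases i
      · rfl
      · rfl
      · rfl
      · rfl
      · rfl
      · show av (bv (k 4)) = k 5
        rw [← hb', ← ha']
        rfl
      · exact (hb' 4).symm
      · exact (ha' 4).symm
  have hne : ∀ i j : Fin 8, i ≠ j → k i ≠ k j := fun i j h e => h (k.injective e)
  have h4 : 4 ≤ (k 4).1 := by
    by_contra hh
    have := (fixed_av _).2 (not_le.1 hh)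
    rw [← ha'] at this
    exact absurd (k.injective this) (by decide +kernel)
  have := cand_V (k 0) (hlt 0 (by decide)) (k 1) (hlt 1 (by decide)) (hne 1 0 (by decide))
    (k 2) (hlt 2 (by decide)) (hne 2 0 (by decide)) (hne 2 1 (by decide))
    (k 3) (hlt 3 (by decide)) (hne 3 0 (by decide)) (hne 3 1 (by decide)) (hne 3 2 (by decide))
    (k 4) h4
  simp only [hf] at this
  refine Equiv.ext fun i => ?_
  rw [Perm.coe_pow]
  exact this i

/-! ### generators and relations -/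

/-- the adjacent transpositions inside `Sym 3 × Sym 5`, except the one joining the parts -/
def gK : Fin 7 → KF :=
  ![eF, (swap 1 2, 1), 1, tF, cF, fF, hF]

/-- the adjacent transpositions inside the second copy, except `(4 5)` -/
def gF : Fin 7 → KF :=
  ![fF, hF, sF 0, tF, 1, eF, (swap 1 2, 1)]

theorem gK_rels : ∀ i j : Fin 7, i ≠ 2 → j ≠ 2 →
    (gK i * gK j) ^ CoxeterMatrix.A 7 i j = 1 := by
  decide +kernel

theorem gF_rels : ∀ i j : Fin 7, i ≠ 4 → j ≠ 4 →
    (gF i * gF j) ^ CoxeterMatrix.A 7 i j = 1 := by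
  decide +kernel

theorem gK_j8 : ∀ i : Fin 7, i ≠ 2 → j8 (gK i) = swap i.castSucc i.succ := by decide +kernel

theorem conj_facts : hF = dF * fF * dF⁻¹ ∧ (swap 1 2, 1) = zF * eF * zF⁻¹ ∧
    tF * sF 0 * tF⁻¹ = sF 1 ∧ tF * tF = 1 ∧ tF * eF = eF * tF ∧ tF * fF = fF * tF ∧
    zF * zF * zF = 1 ∧ sF 0 * sF 0 = 1 ∧ cF * cF = 1 := by
  decide +kernel

/-- the five generators `eF, (1 2), tF, cF, fF, hF` generate -/
theorem closure_gK : Subgroup.closure (gK '' {i | i ≠ 2}) = ⊤ := by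
  set H := Subgroup.closure (gK '' {i | i ≠ 2}) with hH
  have hmem : ∀ i, i ≠ 2 → gK i ∈ H := fun i hi => Subgroup.subset_closure ⟨i, hi, rfl⟩
  have h3 : ∀ p : Perm (Fin 3), (p, (1 : Perm (Fin 5))) ∈ H := by
    intro p
    have hle : Submonoid.closure (Set.range fun a : Fin 2 => swap a.castSucc a.succ) ≤
        (H.comap (MonoidHom.inl (Perm (Fin 3)) (Perm (Fin 5)))).toSubmonoid := by
      rw [Submonoid.closure_le]
      rintro _ ⟨a, rfl⟩
      fin_cases a
      · exact hmem 0 (by decide)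
      · exact hmem 1 (by decide)
    rw [Perm.mclosure_swap_castSucc_succ] at hle
    exact hle (Submonoid.mem_top p)
  have h5 : ∀ p : Perm (Fin 5), ((1 : Perm (Fin 3)), p) ∈ H := by
    intro p
    have hle : Submonoid.closure (Set.range fun a : Fin 4 => swap a.castSucc a.succ) ≤
        (H.comap (MonoidHom.inr (Perm (Fin 3)) (Perm (Fin 5)))).toSubmonoid := by
      rw [Submonoid.closure_le]
      rintro _ ⟨a, rfl⟩
      fin_cases a
      · exact hmem 3 (by decide)
      · exact hmem 4 (by decide)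
      · exact hmem 5 (by decide)
      · exact hmem 6 (by decide)
    rw [Perm.mclosure_swap_castSucc_succ] at hle
    exact hle (Submonoid.mem_top p)
  refine eq_top_iff.2 fun k _ => ?_
  have := mul_mem (h3 k.1) (h5 k.2)
  simpa using this

end CfsgLib.SEightThree.SymIso
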